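import Groth.Agent.PinchLib.Sec
import Groth.Agent.AmpleEmb.ComposeRel
import Groth.Agent.AmpleLib.Extend

/-!
# Ampleness in terms of cocycle sections
-/

set_option autoImplicit false
set_option backward.isDefEq.respectTransparency false
set_option linter.style.haveILetI false

universe u

open CategoryTheory CategoryTheory.Limits AlgebraicGeometry TopologicalSpace Opposite
open Groth.Agent.PullbackMod Groth.Agent.DCohLib Groth.Agent.ParaFLib Groth.Agent.AmpleLib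

noncomputable section

namespace Groth.Agent.PinchLib

variable {X T : Scheme.{u}} {C : Cocyc X} {L : X.Modules}

/-- Local bases of `L` with transition functions `C.u`. -/
def IsFrame (C : Cocyc X) (L : X.Modules) (e : ∀ k, Γ(L, C.O k)) : Prop :=
  (∀ k, Gen (C.O k) (e k)) ∧ ∀ k l, L.presheaf.map (homOfLE (inf_le_right : C.O k ⊓ C.O l ≤ _)).op (e l) =
    C.u k l • L.presheaf.map (homOfLE (inf_le_left : C.O k ⊓ C.O l ≤ _)).op (e k)

theorem exists_frame [CompactSpace X] (hL : PicF.IsInvertible L) :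
    ∃ (C : Cocyc X) (e : ∀ k, Γ(L, C.O k)), IsFrame C L e := by
  classical
  obtain ⟨t, W, e, hW, hcov⟩ := exists_affine_gen_cover hL (O := (⊤ : X.Opens)) isCompact_univ
  have hu : ∀ k l : {x // x ∈ t}, ∃ a : Γ(X, W k.1 ⊓ W l.1), IsUnit a ∧
      a • L.presheaf.map (homOfLE (inf_le_left : W k.1 ⊓ W l.1 ≤ _)).op (e k.1) =
        L.presheaf.map (homOfLE (inf_le_right : W k.1 ⊓ W l.1 ≤ _)).op (e l.1) := fun k l =>
    ((hW l.1 l.2).2.2.res _).exists_unit ((hW k.1 k.2).2.2.res _)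
  choose a ha ha' using hu
  exact ⟨⟨{x // x ∈ t}, fun k => W k.1, fun k => (hW k.1 k.2).1, fun x => by
      obtain ⟨y, hy, hxy⟩ := Set.mem_iUnion₂.1 (hcov (Set.mem_univ x))
      exact ⟨⟨y, hy⟩, hxy⟩, a, ha⟩, fun k => e k.1,
    fun k => (hW k.1 k.2).2.2, fun k l => (ha' k l).symm⟩

theorem IsFrame.pull (π : T ⟶ X) [IsAffineHom π] (hL : PicF.IsInvertible L) {e : ∀ k, Γ(L, C.O k)}
    (he : IsFrame C L e) :
    IsFrame (C.pull π) ((Scheme.Modules.pullback π).obj L) fun k => pullMap π L le_rfl (e k) := by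
  refine ⟨fun k => AmpleEmb.gen_pullMap π hL (he.1 k), fun k l => ?_⟩
  erw [PullbackMod.pullMap_res π L le_rfl (inf_le_right : C.O k ⊓ C.O l ≤ _) _ (le_refl (π ⁻¹ᵁ (C.O k ⊓ C.O l))),
    PullbackMod.pullMap_res π L le_rfl (inf_le_left : C.O k ⊓ C.O l ≤ _) _ (le_refl (π ⁻¹ᵁ (C.O k ⊓ C.O l))),
    he.2 k l, PullbackMod.pullMap_smul]
  rw [← Scheme.Hom.app_eq_appLE]

variable {e : ∀ k, Γ(L, C.O k)}

theorem powLoc_trans (he : IsFrame C L e) (N : ℕ) (k l : C.K) :
    (CohB1.tensorPow L N).presheaf.map (homOfLE (inf_le_right : C.O k ⊓ C.O l ≤ _)).op (powLoc (e l) N) =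
      C.u k l ^ N •
        (CohB1.tensorPow L N).presheaf.map (homOfLE (inf_le_left : C.O k ⊓ C.O l ≤ _)).op (powLoc (e k) N) := by
  rw [powLoc_res, powLoc_res, he.2 k l, powLoc_smul]

/-- A section gives a family. -/
theorem exists_sec_of_hom (he : IsFrame C L e) {N : ℕ} (s : Coh.structureModule X ⟶ CohB1.tensorPow L N) :
    ∃ f : C.P, IsSec C N f ∧ loc f = CohB1.genLocus _ s := by
  have hf : ∀ k, ∃ a : Γ(X, C.O k), a • powLoc (e k) N = resT (sec s) (C.O k) := fun k => by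
    obtain ⟨a, ha⟩ := (gen_powLoc (he.1 k) N _ le_rfl).2 (resT (sec s) (C.O k))
    simp only [ParaFLib.res_self] at ha
    exact ⟨a, ha⟩
  choose f hf using hf
  have hsec : IsSec C N f := fun k l => by
    apply ((gen_powLoc (he.1 k) N) _ inf_le_left).1
    show rs _ (f k) • _ = (C.u k l ^ N * rs _ (f l)) • _
    have h1 := congrArg ((CohB1.tensorPow L N).presheaf.map (homOfLE (inf_le_left : C.O k ⊓ C.O l ≤ _)).op) (hf k)
    have h2 := congrArg ((CohB1.tensorPow L N).presheaf.map (homOfLE (inf_le_right : C.O k ⊓ C.O l ≤ _)).op) (hf l)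
    rw [Scheme.Modules.map_smul, resT, ParaFLib.res_res] at h1 h2
    rw [powLoc_trans he N k l, smul_smul] at h2
    rw [mul_comm]
    exact h1.trans h2.symm
  refine ⟨f, hsec, Opens.ext (Set.ext fun x => ?_)⟩
  obtain ⟨k, hk⟩ := C.cover x
  have h := genLocus_inf_eq_basicOpen s (gen_powLoc (he.1 k) N) (hf k)
  show x ∈ loc f ↔ x ∈ CohB1.genLocus _ s
  rw [mem_loc_iff hsec hk, ← h]
  exact ⟨fun h => h.1, fun h => ⟨h, hk⟩⟩

/-- A family gives a section. -/
theorem exists_hom_of_sec (he : IsFrame C L e) {N : ℕ} {f : C.P} (hf : IsSec C N f) :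
    ∃ s : Coh.structureModule X ⟶ CohB1.tensorPow L N, CohB1.genLocus _ s = loc f := by
  let P := CohB1.tensorPow L N
  let F : TopCat.Sheaf Ab.{u} X.carrier := ⟨P.presheaf, P.isSheaf⟩
  obtain ⟨σ, hσ, -⟩ := F.existsUnique_gluing' C.O ⊤ (fun _ => homOfLE le_top)
    (fun x _ => by
      obtain ⟨k, hk⟩ := C.cover x
      exact Opens.mem_iSup.2 ⟨k, hk⟩) (fun k => (f k • powLoc (e k) N : Γ(P, C.O k))) (fun k l => by
      show P.presheaf.map (homOfLE inf_le_left).op (f k • powLoc (e k) N) =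
        P.presheaf.map (homOfLE inf_le_right).op (f l • powLoc (e l) N)
      rw [Scheme.Modules.map_smul, Scheme.Modules.map_smul, powLoc_trans he N k l, smul_smul]
      refine congrArg (· • _) ?_
      rw [mul_comm]
      exact hf k l)
  refine ⟨secHom P σ, Opens.ext (Set.ext fun x => ?_)⟩
  obtain ⟨k, hk⟩ := C.cover x
  have h := genLocus_inf_eq_basicOpen (secHom P σ) (gen_powLoc (he.1 k) N) (a := f k)
    (by rw [sec_secHom]; exact (hσ k).symm)
  show x ∈ CohB1.genLocus _ _ ↔ x ∈ loc f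
  rw [mem_loc_iff hf hk, ← h]
  exact ⟨fun h => ⟨h, hk⟩, fun h => h.1⟩

theorem exists_of_isAmple (he : IsFrame C L e) (h : CohB1.IsAmple L) (x : X) :
    ∃ (N : ℕ) (f : C.P), IsSec C (N + 1) f ∧ x ∈ loc f ∧ IsAffineOpen (loc f) := by
  obtain ⟨n, s, hx, ha⟩ := h.2.2 x
  obtain ⟨f, hf, hloc⟩ := exists_sec_of_hom he s
  exact ⟨n, f, hf, hloc ▸ hx, hloc ▸ ha⟩

theorem isAmple_of_exists (he : IsFrame C L e) (hL : PicF.IsInvertible L) [CompactSpace X]
    (h : ∀ x : X, ∃ (N : ℕ) (f : C.P), IsSec C (N + 1) f ∧ x ∈ loc f ∧ IsAffineOpen (loc f)) :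
    CohB1.IsAmple L := by
  refine ⟨hL, inferInstance, fun x => ?_⟩
  obtain ⟨N, f, hf, hx, ha⟩ := h x
  obtain ⟨s, hs⟩ := exists_hom_of_sec he hf
  exact ⟨N, s, hs ▸ hx, hs ▸ ha⟩

end Groth.Agent.PinchLib
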