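import Groth.Agent.PinchLib.Sec
import Mathlib.AlgebraicGeometry.ValuativeCriterion
import Mathlib.RingTheory.Ideal.MinimalPrime.Localization
import Mathlib.RingTheory.Valuation.LocalSubring

/-!
# An equation of integral dependence for sections on a universally closed scheme

If finitely many sections of one degree have no common zero on a universally closed `A`-scheme, a power of
any further section of that degree is a combination of monomials of lower order in it.
-/

set_option autoImplicit false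
set_option linter.style.haveILetI false

universe u

open CategoryTheory AlgebraicGeometry TopologicalSpace Opposite

noncomputable section

namespace Groth.Agent.PinchLib

theorem exists_field_hom {R : Type u} [CommRing R] (Q : Ideal R) [Q.IsPrime] :
    ∃ (F : Type u) (_ : Field F) (ψ : R →+* F), ∀ x, ψ x = 0 ↔ x ∈ Q :=
  ⟨FractionRing (R ⧸ Q), inferInstance, (algebraMap (R ⧸ Q) _).comp (Ideal.Quotient.mk Q), fun x => by
    rw [RingHom.comp_apply, map_eq_zero_iff _ (IsFractionRing.injective _ _), Ideal.Quotient.eq_zero_iff_mem]⟩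

theorem exists_valuation {R : Type u} [CommRing R] {F : Type u} [Field F] (θ : R →+* F) (p : Ideal R) [p.IsPrime]
    (h : ∀ b, θ b = 0 → b ∈ p) :
    ∃ (O : ValuationSubring F) (hm : ∀ b, θ b ∈ O), ∀ b, IsUnit (⟨θ b, hm b⟩ : O) ↔ b ∉ p := by
  have hθ : ∀ b : p.primeCompl, IsUnit (θ b) := fun b => IsUnit.mk0 _ fun h0 => b.2 (h b h0)
  let L : Localization.AtPrime p →+* F := IsLocalization.lift hθ
  have hL : ∀ b, L (algebraMap R _ b) = θ b := IsLocalization.lift_eq hθ
  obtain ⟨O, hO, hloc⟩ := IsLocalRing.exists_factor_valuationRing L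
  refine ⟨O, fun b => hL b ▸ hO _, fun b => ?_⟩
  have e : (⟨θ b, hL b ▸ hO _⟩ : O) = L.codRestrict O.toSubring hO (algebraMap R _ b) := Subtype.ext (hL b).symm
  rw [e]
  refine Iff.trans ?_ (IsLocalization.AtPrime.isUnit_to_map_iff (Localization.AtPrime p) p b)
  exact ⟨fun h1 => hloc.map_nonunit _ h1, fun h1 => h1.map _⟩

section Algebra

variable {P A : Type*} [CommRing P] [CommRing A] (c : A →+* P) (t : P) {r : ℕ} (s : Fin r → P)

/-- A monomial. -/
def mon (l : ℕ) (d : Fin r → ℕ) : P := t ^ l * ∏ i, s i ^ d i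

theorem mon_mul (l l' : ℕ) (d d' : Fin r → ℕ) : mon t s l d * mon t s l' d' = mon t s (l + l') (d + d') := by
  simp only [mon, Pi.add_apply, pow_add, Finset.prod_mul_distrib]
  ring

/-- Homogeneous combinations. -/
def homog (n : ℕ) : AddSubgroup P :=
  AddSubgroup.closure {x | ∃ (a : A) (l : ℕ) (d : Fin r → ℕ), l + ∑ i, d i = n ∧ x = c a * mon t s l d}

/-- Homogeneous combinations of smaller order in `t`. -/
def homogLt (k : ℕ) : AddSubgroup P :=
  AddSubgroup.closure {x | ∃ (a : A) (l : ℕ) (d : Fin r → ℕ), l + ∑ i, d i = k ∧ l < k ∧ x = c a * mon t s l d}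

variable {c t s}

theorem mul_mem_homog {m n : ℕ} {x y : P} (hx : x ∈ homog c t s m) (hy : y ∈ homog c t s n) :
    x * y ∈ homog c t s (m + n) := by
  induction hx using AddSubgroup.closure_induction with
  | mem x hx =>
    induction hy using AddSubgroup.closure_induction with
    | mem y hy =>
      obtain ⟨a, l, d, hd, rfl⟩ := hx
      obtain ⟨a', l', d', hd', rfl⟩ := hy
      refine AddSubgroup.subset_closure ⟨a * a', l + l', d + d', ?_, ?_⟩
      · simp only [Pi.add_apply, Finset.sum_add_distrib]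
        omega
      · rw [map_mul, ← mon_mul]
        ring
    | zero => rw [mul_zero]; exact zero_mem _
    | add y y' _ _ h h' => rw [mul_add]; exact add_mem h h'
    | neg y _ h => rw [mul_neg]; exact neg_mem h
  | zero => rw [zero_mul]; exact zero_mem _
  | add x x' _ _ h h' => rw [add_mul]; exact add_mem h h'
  | neg x _ h => rw [neg_mul]; exact neg_mem h

/-- High powers lie in any family containing the products with a high power of some `s i`. -/
theorem pow_mem_of_eq (T : ℕ → AddSubgroup P) {k M : ℕ} (heq : t ^ k ∈ homogLt c t s k)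
    (hbase : ∀ (l : ℕ) (d : Fin r → ℕ) (a : A), l < k → (∃ i, M ≤ d i) → c a * mon t s l d ∈ T (l + ∑ i, d i))
    {n : ℕ} (hn : k + r * M ≤ n) : t ^ n ∈ T n := by
  have main : ∀ (l : ℕ) (d : Fin r → ℕ) (a : A), l + ∑ i, d i = n → c a * mon t s l d ∈ T n := by
    intro l
    induction l using Nat.strong_induction_on with
    | _ l ih =>
      intro d a hd
      by_cases hl : l < k
      · refine hd ▸ hbase l d a hl ?_
        by_contra h
        push_neg at h
        have h1 : ∑ i, d i ≤ r * M := by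
          refine (Finset.sum_le_sum fun i _ => (h i).le).trans ?_
          simp
        omega
      · obtain ⟨j, rfl⟩ := Nat.exists_eq_add_of_le (not_lt.1 hl)
        have e : c a * mon t s (k + j) d = c a * mon t s j d * t ^ k := by
          simp only [mon, pow_add]
          ring
        rw [e]
        refine AddSubgroup.closure_induction (p := fun x _ => c a * mon t s j d * x ∈ T n) ?_ ?_ ?_ ?_ heq
        · rintro _ ⟨a', l', d', hd', hl', rfl⟩
          have h := ih (j + l') (by omega) (d + d') (a * a') (by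
            simp only [Pi.add_apply, Finset.sum_add_distrib]
            omega)
          rw [map_mul, ← mon_mul] at h
          convert h using 1
          ring
        · rw [mul_zero]
          exact zero_mem _
        · intro x y _ _ hx hy
          rw [mul_add]
          exact add_mem hx hy
        · intro x _ hx
          rw [mul_neg]
          exact neg_mem hx
  simpa [mon] using main n 0 1 (by simp)

end Algebra

variable {V : Scheme.{u}}

/-- Evaluation at a field or ring valued point. -/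
def ev {F : CommRingCat.{u}} (v : Spec F ⟶ V) (U : V.Opens) (h : (⊤ : (Spec F).Opens) ≤ v ⁻¹ᵁ U) :
    Γ(V, U) →+* F :=
  (v.appLE U ⊤ h ≫ (Scheme.ΓSpecIso F).hom).hom

theorem ev_rs {F : CommRingCat.{u}} (v : Spec F ⟶ V) {a b : V.Opens} (hab : b ≤ a) (h : ⊤ ≤ v ⁻¹ᵁ b)
    (x : Γ(V, a)) : ev v b h (rs hab x) = ev v a (h.trans (v.preimage_mono hab)) x := by
  show ((V.presheaf.map (homOfLE hab).op ≫ v.appLE b ⊤ h) ≫ (Scheme.ΓSpecIso F).hom) x = _
  rw [Scheme.Hom.map_appLE]
  rfl

theorem ev_specMap {F O : CommRingCat.{u}} (φ : O ⟶ F) (l : Spec O ⟶ V) (v : Spec F ⟶ V) (hv : Spec.map φ ≫ l = v)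
    (U : V.Opens) (h : ⊤ ≤ l ⁻¹ᵁ U) (h' : ⊤ ≤ v ⁻¹ᵁ U) (x : Γ(V, U)) : ev v U h' x = φ (ev l U h x) := by
  subst hv
  show ((Spec.map φ ≫ l).appLE U ⊤ h' ≫ (Scheme.ΓSpecIso F).hom) x =
    ((l.appLE U ⊤ h ≫ (Scheme.ΓSpecIso O).hom) ≫ φ) x
  rw [Category.assoc, ← Scheme.ΓSpecIso_naturality, ← Category.assoc,
    show (Spec.map φ).appTop = (Spec.map φ).appLE ⊤ ⊤ le_rfl from Scheme.Hom.app_eq_appLE _]
  erw [Scheme.Hom.appLE_comp_appLE]

theorem ev_fromSpec {F : CommRingCat.{u}} {U : V.Opens} (hU : IsAffineOpen U) (χ : Γ(V, U) ⟶ F)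
    (h : ⊤ ≤ (Spec.map χ ≫ hU.fromSpec) ⁻¹ᵁ U) (x : Γ(V, U)) :
    ev (Spec.map χ ≫ hU.fromSpec) U h x = χ x := by
  have h0 : (⊤ : (Spec Γ(V, U)).Opens) ≤ hU.fromSpec ⁻¹ᵁ U := hU.fromSpec_preimage_self.ge
  rw [ev_specMap χ hU.fromSpec _ rfl U h0 h]
  refine congrArg χ ?_
  show (hU.fromSpec.appLE U ⊤ h0 ≫ (Scheme.ΓSpecIso Γ(V, U)).hom) x = x
  rw [Scheme.Hom.appLE, hU.fromSpec_app_self, Category.assoc, Category.assoc, ← Functor.map_comp_assoc]
  simp

/-- The constants. -/
def constA {A : CommRingCat.{u}} (q : V ⟶ Spec A) (C : Cocyc V) : A →+* C.P :=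
  Pi.ringHom fun k => (rs (le_top : C.O k ≤ ⊤)).comp ((Scheme.ΓSpecIso A).inv ≫ q.appTop).hom

theorem isSec_constA {A : CommRingCat.{u}} (q : V ⟶ Spec A) (C : Cocyc V) (a : A) :
    IsSec C 0 (constA q C a) := isSec_const _

/-- The equation of integral dependence. -/
theorem exists_integral_eq {A : CommRingCat.{u}} (q : V ⟶ Spec A) [UniversallyClosed q] (C : Cocyc V) {D r : ℕ}
    (t : C.P) (s : Fin r → C.P) (ht : IsSec C D t) (hs : ∀ i, IsSec C D (s i))
    (hcov : ∀ v : V, ∃ i, v ∈ loc (s i)) :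
    ∃ k, t ^ k ∈ homogLt (constA q C) t s k := by
  classical
  let c := constA q C
  let gr : Subring (Polynomial C.P) :=
    { carrier := {b | ∀ n, b.coeff n ∈ homog c t s n}
      zero_mem' := fun n => by rw [Polynomial.coeff_zero]; exact zero_mem _
      one_mem' := fun n => by
        rw [Polynomial.coeff_one]
        split
        · subst n
          exact AddSubgroup.subset_closure ⟨1, 0, 0, by simp, by simp [mon]⟩
        · exact zero_mem _
      add_mem' := fun ha hb n => by rw [Polynomial.coeff_add]; exact add_mem (ha n) (hb n)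
      neg_mem' := fun ha n => by rw [Polynomial.coeff_neg]; exact neg_mem (ha n)
      mul_mem' := fun ha hb n => by
        rw [Polynomial.coeff_mul]
        refine sum_mem fun p hp => ?_
        exact (Finset.mem_antidiagonal.1 hp) ▸ mul_mem_homog (ha p.1) (hb p.2) }
  have hc : ∀ a : A, Polynomial.C (c a) ∈ gr := fun a n => by
    rw [Polynomial.coeff_C]
    split
    · subst n
      exact AddSubgroup.subset_closure ⟨a, 0, 0, by simp, by simp [mon]⟩
    · exact zero_mem _
  have hX : ∀ {p : C.P}, (∃ (l : ℕ) (d : Fin r → ℕ), l + ∑ i, d i = 1 ∧ p = mon t s l d) →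
      Polynomial.C p * Polynomial.X ∈ gr := fun ⟨l, d, hd, hp⟩ n => by
    rw [Polynomial.coeff_C_mul, Polynomial.coeff_X]
    split
    · subst n
      rw [mul_one]
      exact AddSubgroup.subset_closure ⟨1, l, d, hd, by rw [map_one, one_mul]; exact hp⟩
    · rw [mul_zero]
      exact zero_mem _
  let tX : gr := ⟨Polynomial.C t * Polynomial.X, hX ⟨1, 0, by simp, by simp [mon]⟩⟩
  have htX : (tX : Polynomial C.P) = Polynomial.C t * Polynomial.X := rfl
  let sX : Fin r → gr := fun i => ⟨Polynomial.C (s i) * Polynomial.X, hX ⟨0, Pi.single i 1, by simp, by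
    simp [mon, Pi.single_apply, pow_ite]⟩⟩
  let I : Ideal gr := Ideal.span (Set.range sX)
  have hrad : tX ∈ I.radical := by
    rw [Ideal.radical_eq_sInf, Submodule.mem_sInf]
    rintro p ⟨hIp, hp⟩
    by_contra htp
    haveI := hp
    obtain ⟨q₀, hq₀, hq₀p⟩ := Ideal.exists_minimalPrimes_le (bot_le : (⊥ : Ideal gr) ≤ p)
    obtain ⟨Q, hQ, hQq⟩ := Ideal.exists_comap_eq_of_mem_minimalPrimes_of_injective
      (f := gr.subtype) Subtype.coe_injective q₀ hq₀
    haveI := hQ
    obtain ⟨F, hF, ψ, hψ⟩ := exists_field_hom Q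
    letI := hF
    -- the component
    obtain ⟨k₀, hk₀⟩ : ∃ k, ψ (Polynomial.C (Pi.single k (1 : Γ(V, C.O k)))) = 1 := by
      by_contra h
      push_neg at h
      have h0 : ∀ k, ψ (Polynomial.C (Pi.single k (1 : Γ(V, C.O k)))) = 0 := fun k => by
        refine ((IsIdempotentElem.iff_eq_zero_or_one).1 ?_).resolve_right (h k)
        show _ * _ = _
        rw [← map_mul, ← map_mul, ← Pi.single_mul, mul_one]
      have h1 : ψ (Polynomial.C (∑ k, Pi.single k (1 : Γ(V, C.O k)))) = 0 := by
        rw [map_sum, map_sum]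
        exact Finset.sum_eq_zero fun k _ => h0 k
      have h2 : (∑ k, Pi.single k (1 : Γ(V, C.O k))) = (1 : C.P) :=
        Finset.univ_sum_single (1 : C.P)
      rw [h2, map_one, map_one] at h1
      exact one_ne_zero h1
    let χ : Γ(V, C.O k₀) →+* F :=
      { toFun := fun x => ψ (Polynomial.C (Pi.single k₀ x))
        map_one' := hk₀
        map_mul' := fun x y => by rw [← map_mul, ← map_mul, ← Pi.single_mul]
        map_zero' := by simp
        map_add' := fun x y => by rw [Pi.single_add, map_add, map_add] }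
    have hcomp : ∀ f : C.P, ψ (Polynomial.C f) = χ (f k₀) := fun f => by
      show _ = ψ (Polynomial.C (Pi.single k₀ (f k₀)))
      have e : f * Pi.single k₀ (1 : Γ(V, C.O k₀)) = Pi.single k₀ (f k₀) := by
        funext k
        by_cases h : k = k₀
        · subst h; simp
        · simp [h]
      rw [← e, map_mul, map_mul, hk₀, mul_one]
    let ξ : F := ψ Polynomial.X
    have hCX : ∀ f : C.P, ψ (Polynomial.C f * Polynomial.X) = ξ * χ (f k₀) := fun f => by
      rw [map_mul, hcomp, mul_comm]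
    -- the valuation ring
    let θ : gr →+* F := ψ.comp gr.subtype
    obtain ⟨O, hmem, hunit⟩ := exists_valuation θ p fun b h => hq₀p (by
      rw [← hQq, Ideal.mem_comap]
      exact (hψ _).1 h)
    -- the two points
    let v : Spec (CommRingCat.of F) ⟶ V := Spec.map (CommRingCat.ofHom χ) ≫ (C.aff k₀).fromSpec
    have hvk : ⊤ ≤ v ⁻¹ᵁ C.O k₀ := by
      show ⊤ ≤ Spec.map (CommRingCat.ofHom χ) ⁻¹ᵁ ((C.aff k₀).fromSpec ⁻¹ᵁ C.O k₀)
      rw [(C.aff k₀).fromSpec_preimage_self]
      exact le_of_eq rfl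
    let αA : A ⟶ CommRingCat.of O := CommRingCat.ofHom
      ((θ.comp ((Polynomial.C.comp c).codRestrict gr hc)).codRestrict O.toSubring fun a => hmem _)
    let φO : CommRingCat.of O ⟶ CommRingCat.of F := CommRingCat.ofHom O.subtype
    have hsq : CommSq v (Spec.map φO) q (Spec.map αA) := ⟨by
      refine ext_of_isAffine ?_
      rw [← cancel_epi (Scheme.ΓSpecIso A).inv, ← cancel_mono (Scheme.ΓSpecIso (CommRingCat.of F)).hom]
      refine CommRingCat.hom_ext (RingHom.ext fun a => ?_)
      have e1 : ((Scheme.ΓSpecIso A).inv ≫ (Spec.map φO ≫ Spec.map αA).appTop) ≫ (Scheme.ΓSpecIso (CommRingCat.of F)).hom =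
          αA ≫ φO := by
        rw [← Spec.map_comp, Category.assoc, Scheme.ΓSpecIso_naturality, Iso.inv_hom_id_assoc]
      rw [e1]
      show (Scheme.ΓSpecIso (CommRingCat.of F)).hom (v.appTop (q.appTop ((Scheme.ΓSpecIso A).inv a))) = θ ⟨Polynomial.C (c a), hc a⟩
      refine Eq.trans ?_ (hcomp (c a)).symm
      show _ = χ (rs le_top (q.appTop ((Scheme.ΓSpecIso A).inv a)))
      refine Eq.trans ?_ (ev_fromSpec (C.aff k₀) (CommRingCat.ofHom χ) hvk _)
      rw [ev_rs]
      show _ = (v.appLE ⊤ ⊤ _ ≫ (Scheme.ΓSpecIso (CommRingCat.of F)).hom) _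
      rw [Scheme.Hom.appLE]
      simp only [homOfLE_refl, op_id, CategoryTheory.Functor.map_id, Category.comp_id]
      rfl⟩
    have hex : ValuativeCriterion.Existence q := by
      have h : @UniversallyClosed V (Spec A) q := inferInstance
      rw [UniversallyClosed.eq_valuativeCriterion] at h
      exact h.1
    obtain ⟨⟨l, hl₁, -⟩⟩ := (hex { R := O, K := F, i₁ := v, i₂ := Spec.map αA, commSq := hsq }).exists_lift
    change Spec.map φO ≫ l = v at hl₁
    obtain ⟨k₁, hk₁⟩ := C.cover (l (IsLocalRing.closedPoint O))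
    have hlk : ⊤ ≤ l ⁻¹ᵁ C.O k₁ := fun z _ =>
      ((IsLocalRing.specializes_closedPoint z).map l.continuous).mem_open (C.O k₁).2 hk₁
    have hvk₁ : ⊤ ≤ v ⁻¹ᵁ C.O k₁ := fun z _ => by
      rw [← hl₁]
      exact hlk (Set.mem_univ _)
    have hv₁₀ : ⊤ ≤ v ⁻¹ᵁ (C.O k₀ ⊓ C.O k₁) := le_inf hvk hvk₁
    let U : F := ev v _ hv₁₀ (C.u k₀ k₁) ^ D
    let ρ : Γ(V, C.O k₁) →+* O := ev l (C.O k₁) hlk
    have htrans : ∀ f : C.P, IsSec C D f → χ (f k₀) = U * (ρ (f k₁) : F) := fun f hf => by
      have h := congrArg (ev v _ hv₁₀) (hf k₀ k₁)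
      rw [map_mul, map_pow, ev_rs, ev_rs] at h
      refine (ev_fromSpec (C.aff k₀) (CommRingCat.ofHom χ) hvk (f k₀)).symm.trans (h.trans ?_)
      rw [ev_specMap φO l v hl₁ (C.O k₁) hlk]
      rfl
    -- a member of the family not vanishing at the centre
    obtain ⟨i, hi⟩ := hcov (l (IsLocalRing.closedPoint O))
    have hρs : IsUnit (ρ (s i k₁)) := by
      have h1 : (⊤ : (Spec (CommRingCat.of O)).Opens) ≤ l ⁻¹ᵁ V.basicOpen (s i k₁) := fun z _ =>
        ((IsLocalRing.specializes_closedPoint z).map l.continuous).mem_open (V.basicOpen (s i k₁)).2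
          ((mem_loc_iff (hs i) hk₁).1 hi)
      have h2 := (RingedSpace.isUnit_res_basicOpen V.toRingedSpace (s i k₁)).map (ev l _ h1)
      have h3 : ev l _ h1 (rs (V.basicOpen_le _) (s i k₁)) = ρ (s i k₁) := ev_rs l _ h1 _
      exact h3 ▸ h2
    have hti : ¬ IsUnit (⟨θ (sX i), hmem _⟩ : O) := fun h =>
      (hunit _).1 h (hIp (Ideal.subset_span ⟨i, rfl⟩))
    have htu : IsUnit (⟨θ tX, hmem _⟩ : O) := (hunit _).2 htp
    refine hti ?_
    have et : θ tX = ξ * (U * (ρ (t k₁) : F)) := by
      show ψ (tX : Polynomial C.P) = _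
      rw [htX, hCX, htrans t ht]
    have es : θ (sX i) = ξ * (U * (ρ (s i k₁) : F)) := by
      show ψ (Polynomial.C (s i) * Polynomial.X) = _
      rw [hCX, htrans (s i) (hs i)]
    refine isUnit_of_mul_isUnit_left (y := ρ (t k₁)) ?_
    have e : (⟨θ (sX i), hmem _⟩ : O) * ρ (t k₁) = ⟨θ tX, hmem _⟩ * ρ (s i k₁) := by
      refine Subtype.ext ?_
      show θ (sX i) * (ρ (t k₁) : F) = θ tX * (ρ (s i k₁) : F)
      rw [et, es]
      ring
    rw [e]
    exact htu.mul hρs
  obtain ⟨k, hk⟩ := hrad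
  refine ⟨k + 1, ?_⟩
  obtain ⟨b, hb⟩ := (Submodule.mem_span_range_iff_exists_fun (R := gr)).1 (I.mul_mem_right tX hk)
  have h := congrArg (fun z : gr => (z : Polynomial C.P).coeff (k + 1)) hb
  simp only [smul_eq_mul, AddSubmonoidClass.coe_finsetSum, Subring.coe_mul, SubmonoidClass.coe_pow, htX,
    Polynomial.finsetSum_coeff, ← pow_succ] at h
  rw [mul_pow, ← Polynomial.C_pow, Polynomial.coeff_C_mul, Polynomial.coeff_X_pow, if_pos rfl, mul_one] at h
  rw [← h]
  refine sum_mem fun i _ => ?_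
  show ((b i : Polynomial C.P) * (Polynomial.C (s i) * Polynomial.X)).coeff (k + 1) ∈ _
  rw [← mul_assoc, Polynomial.coeff_mul_X, Polynomial.coeff_mul_C]
  refine AddSubgroup.closure_induction (p := fun x _ => x * s i ∈ homogLt c t s (k + 1)) ?_ ?_ ?_ ?_ ((b i).2 k)
  · rintro _ ⟨a, l, d, hd, rfl⟩
    refine AddSubgroup.subset_closure ⟨a, l, d + Pi.single i 1, ?_, by omega, ?_⟩
    · simp [Finset.sum_add_distrib]
      omega
    · rw [mul_assoc]
      refine congrArg (c a * ·) ?_
      rw [← add_zero l, ← mon_mul, add_zero]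
      simp [mon, Pi.single_apply, pow_ite]
  · rw [zero_mul]
    exact zero_mem _
  · intro x y _ _ hx hy
    rw [add_mul]
    exact add_mem hx hy
  · intro x _ hx
    rw [neg_mul]
    exact neg_mem hx

end Groth.Agent.PinchLib
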