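import Groth.Agent.PinchLib.Pinch
import Groth.Agent.FinModelLib.Descend
import Groth.Agent.RelProjLib.RLpsiGlobal
import Groth.Agent.ClSubLib.ProperOver
import Groth.Agent.S0052
import Mathlib.RingTheory.TensorProduct.IsBaseChangeFree

/-!
# Ampleness from a finite cover which is normal or free outside a set proper over the base
-/

set_option autoImplicit false
set_option backward.isDefEq.respectTransparency false
set_option linter.style.haveILetI false

universe u

open CategoryTheory CategoryTheory.Limits AlgebraicGeometry TopologicalSpace Opposite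
open Groth.Agent.NormAmpleLib

noncomputable section

namespace Groth.Agent.PinchLib

variable {X X' : Scheme.{u}}

theorem nice_of_isPullback {g : X' ⟶ X} {X₀ X₀' : Scheme.{u}} {ι' : X₀' ⟶ X'} {g₀ : X₀' ⟶ X₀} {ι : X₀ ⟶ X}
    (hc : IsPullback ι' g₀ g ι) [IsAffineHom g] {D : X.Opens} (hD : IsAffineOpen D) {d : ℕ} (hn : Nice g D d)
    {D₀ : X₀.Opens} (hD₀ : IsAffineOpen D₀) (hle : D₀ ≤ ι ⁻¹ᵁ D) : Nice g₀ D₀ d := by
  have e : g₀ ⁻¹ᵁ D₀ ≤ ι' ⁻¹ᵁ (g ⁻¹ᵁ D) ⊓ g₀ ⁻¹ᵁ D₀ := le_inf (by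
    rw [← Scheme.Hom.comp_preimage, hc.w, Scheme.Hom.comp_preimage]
    exact g₀.preimage_mono hle) le_rfl
  have hn' : letI := (g.appLE D (g ⁻¹ᵁ D) le_rfl).hom.toAlgebra
      Nonempty (Module.Basis (Fin d) Γ(X, D) Γ(X', g ⁻¹ᵁ D)) := by
    rw [← Scheme.Hom.app_eq_appLE]
    exact hn
  obtain ⟨b₀⟩ := hn'
  obtain ⟨-, hpo⟩ := PullbackMod.isPushout_appLE hc hD (hD.preimage g) hD₀ le_rfl hle
  let W' := ι' ⁻¹ᵁ (g ⁻¹ᵁ D) ⊓ g₀ ⁻¹ᵁ D₀
  letI : Algebra Γ(X, D) Γ(X', g ⁻¹ᵁ D) := (g.appLE D (g ⁻¹ᵁ D) le_rfl).hom.toAlgebra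
  letI : Algebra Γ(X, D) Γ(X₀, D₀) := (ι.appLE D D₀ hle).hom.toAlgebra
  letI : Algebra Γ(X', g ⁻¹ᵁ D) Γ(X₀', W') := (ι'.appLE (g ⁻¹ᵁ D) W' inf_le_left).hom.toAlgebra
  letI : Algebra Γ(X₀, D₀) Γ(X₀', W') := (g₀.appLE D₀ W' inf_le_right).hom.toAlgebra
  letI : Algebra Γ(X, D) Γ(X₀', W') :=
    ((ι'.appLE (g ⁻¹ᵁ D) W' inf_le_left).hom.comp (g.appLE D (g ⁻¹ᵁ D) le_rfl).hom).toAlgebra
  haveI : IsScalarTower Γ(X, D) Γ(X', g ⁻¹ᵁ D) Γ(X₀', W') := .of_algebraMap_eq fun _ => rfl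
  haveI : IsScalarTower Γ(X, D) Γ(X₀, D₀) Γ(X₀', W') := .of_algebraMap_eq' (by
    show ((g.appLE D (g ⁻¹ᵁ D) le_rfl) ≫ ι'.appLE (g ⁻¹ᵁ D) W' inf_le_left).hom =
      ((ι.appLE D D₀ hle) ≫ g₀.appLE D₀ W' inf_le_right).hom
    simp only [Scheme.Hom.appLE_comp_appLE, hc.w])
  haveI : Algebra.IsPushout Γ(X, D) Γ(X₀, D₀) Γ(X', g ⁻¹ᵁ D) Γ(X₀', W') := hpo
  let b' : Module.Basis (Fin d) Γ(X₀, D₀) Γ(X₀', W') :=
    IsBaseChange.basis b₀ (Algebra.IsPushout.out (R := Γ(X, D)) (S := Γ(X₀, D₀)) (R' := Γ(X', g ⁻¹ᵁ D))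
      (S' := Γ(X₀', W')))
  letI := alg g₀ D₀
  have hbij : Function.Bijective (X₀'.presheaf.map (homOfLE e).op) :=
    Function.bijective_iff_has_inverse.2 ⟨X₀'.presheaf.map (homOfLE (inf_le_right : W' ≤ g₀ ⁻¹ᵁ D₀)).op,
      fun x => (rs_rs e inf_le_right x).trans (rs_self _ x), fun x => (rs_rs inf_le_right e x).trans (rs_self _ x)⟩
  let E : Γ(X₀', W') ≃ₗ[Γ(X₀, D₀)] Γ(X₀', g₀ ⁻¹ᵁ D₀) := LinearEquiv.ofBijective
    { toFun := X₀'.presheaf.map (homOfLE e).op
      map_add' := map_add _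
      map_smul' := fun r x => by
        show (X₀'.presheaf.map (homOfLE e).op) (g₀.appLE D₀ W' inf_le_right r * x) =
          g₀.app D₀ r * X₀'.presheaf.map (homOfLE e).op x
        rw [map_mul, Scheme.Hom.app_eq_appLE]
        congr 1
        show (g₀.appLE D₀ W' inf_le_right ≫ X₀'.presheaf.map _) r = _
        rw [Scheme.Hom.appLE_map] } hbij
  exact ⟨b'.map E⟩

theorem exists_conductor [IsNoetherian X] (h : X' ⟶ X) [IsFinite h] {W : X.Opens} (hiso : IsIso (h ∣_ W))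
    {J : X.IdealSheafData} (hJ : (W : Set X)ᶜ = J.support) {U : X.Opens} (hU : IsAffineOpen U) :
    ∃ M : ℕ, ∀ a ∈ J.ideal ⟨U, hU⟩ ^ M, ∀ b : Γ(X', h ⁻¹ᵁ U), h.app U a * b ∈ Set.range (h.app U) := by
  classical
  letI := alg h U
  haveI : IsNoetherianRing Γ(X, U) := IsLocallyNoetherian.component_noetherian ⟨U, hU⟩
  haveI : Module.Finite Γ(X, U) Γ(X', h ⁻¹ᵁ U) := h.finite_app U hU
  let Cd : Ideal Γ(X, U) :=
    { carrier := {a | ∀ b, h.app U a * b ∈ Set.range (h.app U)}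
      zero_mem' := fun b => ⟨0, by rw [map_zero, zero_mul]⟩
      add_mem' := fun {a a'} ha ha' b => by
        obtain ⟨c, hc⟩ := ha b
        obtain ⟨c', hc'⟩ := ha' b
        exact ⟨c + c', by rw [map_add, map_add, add_mul, hc, hc']⟩
      smul_mem' := fun r a ha b => by
        obtain ⟨c, hc⟩ := ha b
        exact ⟨r * c, by rw [map_mul, hc, smul_eq_mul, map_mul, mul_assoc]⟩ }
  have hrad : J.ideal ⟨U, hU⟩ ≤ Cd.radical := by
    intro c hc
    have hcW : X.basicOpen c ≤ W := fun x hx => by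
      by_contra hxW
      have h1 : x ∈ J.support := hJ.subset hxW
      rw [Scheme.IdealSheafData.mem_support_iff_of_mem (U := ⟨U, hU⟩) (X.basicOpen_le c hx)] at h1
      exact ((Scheme.mem_zeroLocus_iff _ _ _).1 h1 c hc) hx
    have hiso' : IsIso (h.app (X.basicOpen c)) := by
      haveI := hiso
      haveI : IsIso (h ∣_ X.basicOpen c) :=
        RelProjLib.restrict_of_le h (Q := MorphismProperty.isomorphisms Scheme.{u}) hcW hiso
      have h2 := (inferInstance : IsIso ((h ∣_ X.basicOpen c).appTop))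
      rw [morphismRestrict_appTop] at h2
      haveI := h2
      have h3 : IsIso (h.app ((X.basicOpen c).ι ''ᵁ ⊤)) :=
        IsIso.of_isIso_comp_right _ (X'.presheaf.map (eqToHom (image_morphismRestrict_preimage h _ ⊤)).op)
      rw [Scheme.Opens.ι_image_top] at h3
      exact h3
    have hbO : h ⁻¹ᵁ X.basicOpen c = X'.basicOpen (h.app U c) := Scheme.preimage_basicOpen h c
    have key : ∀ b : Γ(X', h ⁻¹ᵁ U), ∃ n : ℕ, h.app U (c ^ n) * b ∈ Set.range (h.app U) := fun b => by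
      obtain ⟨z, hz⟩ := (ConcreteCategory.bijective_of_isIso (h.app (X.basicOpen c))).2
        (rs (h.preimage_mono (X.basicOpen_le c)) b)
      haveI := hU.isLocalization_basicOpen c
      obtain ⟨n, a, ha⟩ := IsLocalization.Away.surj c z
      have hzero : rs (h.preimage_mono (X.basicOpen_le c)) (h.app U (c ^ n) * b - h.app U a) = 0 := by
        rw [map_sub, map_mul, rs_app, rs_app, ← hz, ← map_mul, ← map_sub]
        refine (congrArg (h.app (X.basicOpen c)).hom ?_).trans (map_zero _)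
        rw [sub_eq_zero, map_pow, mul_comm]
        exact ha
      obtain ⟨m, hm⟩ := exists_pow_mul_eq_zero_of_res_basicOpen_eq_zero_of_isCompact X'
        ((hU.preimage h).isCompact) (h.app U (c ^ n) * b - h.app U a) (h.app U c) (by
          have h1 := congrArg (rs hbO.ge) hzero
          rw [rs_rs, map_zero] at h1
          exact h1)
      refine ⟨m + n, c ^ m * a, ?_⟩
      rw [mul_sub, sub_eq_zero] at hm
      rw [map_mul, pow_add, map_mul, map_pow, mul_assoc]
      exact hm.symm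
    choose n hn using key
    obtain ⟨S, hS⟩ := (Module.Finite.fg_top : (⊤ : Submodule Γ(X, U) Γ(X', h ⁻¹ᵁ U)).FG)
    refine ⟨S.sup n, fun b => ?_⟩
    have hb : b ∈ Submodule.span Γ(X, U) (S : Set Γ(X', h ⁻¹ᵁ U)) := hS ▸ Submodule.mem_top
    induction hb using Submodule.span_induction with
    | mem b hb =>
      obtain ⟨r, hr⟩ := Nat.exists_eq_add_of_le (Finset.le_sup (f := n) hb)
      obtain ⟨a, ha⟩ := hn b
      exact ⟨c ^ r * a, by rw [map_mul, ha, hr, pow_add, map_mul]; ring⟩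
    | zero => exact ⟨0, by rw [map_zero, mul_zero]⟩
    | add b b' _ _ hb hb' =>
      obtain ⟨a, ha⟩ := hb
      obtain ⟨a', ha'⟩ := hb'
      exact ⟨a + a', by rw [map_add, mul_add, ha, ha']⟩
    | smul r b _ hb =>
      obtain ⟨a, ha⟩ := hb
      refine ⟨r * a, ?_⟩
      rw [map_mul, ha, Algebra.smul_def]
      exact mul_left_comm _ _ _
  obtain ⟨M, hM⟩ := Ideal.exists_pow_le_of_le_radical_of_fg hrad (IsNoetherian.noetherian _)
  exact ⟨M, fun a ha => hM ha⟩

/-- The reduced case. -/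
theorem isAmple_of_cover {A : CommRingCat.{u}} [IsNoetherianRing A] [IsNoetherian X] [IsReduced X]
    (q : X ⟶ Spec A) [LocallyOfFiniteType q] (g : X' ⟶ X) [IsFinite g] [Surjective g] {Z : Set X}
    (hZ : ClSub.IsProperOver q Z)
    (hW : ∀ x ∉ Z, (IsDomain (X.presheaf.stalk x) ∧ IsIntegrallyClosed (X.presheaf.stalk x)) ∨
      ∃ (D : X.Opens) (d : ℕ), x ∈ D ∧ IsAffineOpen D ∧ Nice g D d)
    {L : X.Modules} (hL : PicF.IsInvertible L) (hamp : CohB1.IsAmple ((Scheme.Modules.pullback g).obj L)) :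
    CohB1.IsAmple L := by
  classical
  obtain ⟨R, hR⟩ := FinModelLib.exists_isMult g
  obtain ⟨Zs, h, hfin, s, hs, hred, hdom, hqc, hchart⟩ := FinModelLib.exists_model g hR
  haveI := hfin
  haveI := hdom
  haveI := hqc
  have hcov : ∀ x : X, ∃ D, x ∈ D ∧ FinModelLib.HasPoly hs R D := fun x => by
    obtain ⟨D, σ, i, y, P, hx, hD, h1, h2, h3⟩ := hchart x
    exact ⟨D, hx, σ, i, y, P, hD, h1, h2, h3⟩
  obtain ⟨hZc, hZp⟩ := id hZ
  let W : X.Opens := ⟨Zᶜ, hZc.isOpen_compl⟩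
  have hloc : ∀ x ∈ W, ∃ U : X.Opens, x ∈ U ∧ IsIso (h ∣_ U) := fun x hx => by
    rcases hW x hx with ⟨h1, h2⟩ | ⟨D, d, hxD, hD, hn⟩
    · haveI := h1
      haveI := h2
      exact FinModelLib.exists_isIso_restrict_normal hs
    · exact ⟨D, hxD, FinModelLib.isIso_restrict_of_le hs hD (FinModelLib.NAff.mk D d hD hn).le⟩
  choose U hxU hU using hloc
  have hWiso : IsIso (h ∣_ W) :=
    RelProjLib.restrict_of_le h (Q := MorphismProperty.isomorphisms Scheme.{u})
      (fun x hx => Opens.mem_iSup.2 ⟨⟨x, hx⟩, hxU x hx⟩ : W ≤ ⨆ x : (W : Set X), U x.1 x.2)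
      (RelProjLib.restrict_iSup h (Q := MorphismProperty.isomorphisms Scheme.{u})
        (fun x : (W : Set X) => U x.1 x.2) fun x => hU x.1 x.2)
  haveI : Surjective h := by
    refine ⟨fun x => ?_⟩
    have h1 : closure (FinModelLib.freeLocus g : Set X) ⊆ Set.range h := by
      refine closure_minimal (fun y hy => ⟨s ⟨y, hy⟩, ?_⟩) h.isClosedMap.isClosed_range
      rw [← Scheme.Hom.comp_apply, hs]
      rfl
    exact h1 (FinModelLib.dense_freeLocus g x)
  obtain ⟨C, e, he⟩ := exists_frame hL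
  let J := Scheme.IdealSheafData.vanishingIdeal ⟨Z, hZc⟩
  have hJ : (W : Set X)ᶜ = J.support := by
    rw [Scheme.IdealSheafData.coe_support_vanishingIdeal]
    exact compl_compl Z
  choose M hM using fun k => exists_conductor h hWiso hJ (C.aff k)
  let I := J ^ (Finset.univ.sup M + 1)
  let i := I.subschemeι
  have hr : Set.range i = Z := by
    rw [Scheme.IdealSheafData.range_subschemeι, Scheme.IdealSheafData.support_pow_succ,
      Scheme.IdealSheafData.coe_support_vanishingIdeal]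
    rfl
  haveI : IsProper (i ≫ q) := (ClSubLib.isProperOver_iff q i hr).1 hZ
  have hL' : CohB1.IsAmple ((Scheme.Modules.pullback h).obj L) := FinModelLib.isAmple_model hs hR hcov hL hamp
  have hV : CohB1.IsAmple ((Scheme.Modules.pullback i).obj L) := by
    haveI : IsProper (pullback.snd h i ≫ i ≫ q) := inferInstance
    refine (Groth.Agent.S0052.result A (i ≫ q) (pullback.snd h i ≫ i ≫ q) (pullback.snd h i) rfl _
      (AmpleLib.isInvertible_pullback i hL)).2 ?_
    exact AmpleLib.isAmple_of_iso ((Scheme.Modules.pullbackComp (pullback.fst h i) h).app L ≪≫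
      (Scheme.Modules.pullbackCongr pullback.condition).app L ≪≫
        ((Scheme.Modules.pullbackComp (pullback.snd h i) i).app L).symm) (AmpleLib.isAmple_pullback _ hL')
  refine isAmple_of_pinch q h i he (fun k b hb => ?_) hL hV hL'
  rw [show RingHom.ker (i.app (C.O k)).hom = I.ideal ⟨C.O k, C.aff k⟩ from I.ker_subschemeι_app ⟨_, C.aff k⟩] at hb
  let ψ := (h.app (C.O k)).hom
  have key : ∀ z ∈ (I.ideal ⟨C.O k, C.aff k⟩).map ψ, ∀ β, z * β ∈ Set.range ψ := fun z hz => by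
    refine Submodule.span_induction (p := fun z _ => ∀ β, z * β ∈ Set.range ψ) ?_ ?_ ?_ ?_ hz
    · rintro _ ⟨a, ha, rfl⟩
      exact hM k a (Ideal.pow_le_pow_right ((Finset.le_sup (Finset.mem_univ k)).trans (Nat.le_succ _))
        (by simpa [I] using ha))
    · exact fun β => ⟨0, by rw [map_zero, zero_mul]⟩
    · intro x y _ _ hx hy β
      obtain ⟨a, ha⟩ := hx β
      obtain ⟨a', ha'⟩ := hy β
      exact ⟨a + a', by rw [map_add, add_mul, ha, ha']⟩
    · intro r x _ hx β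
      obtain ⟨a, ha⟩ := hx (r * β)
      exact ⟨a, by rw [ha, smul_eq_mul]; ring⟩
  simpa using key b hb 1

/-- Freeness at a point gives an affine neighbourhood with free functions upstairs. -/
theorem exists_nice_of_free [IsNoetherian X] (g : X' ⟶ X) [IsFinite g] (x : X)
    (h : Module.Free (X.presheaf.stalk x) (((Coh.push g).obj (Coh.structureModule X')).presheaf.stalk x)) :
    ∃ (D : X.Opens) (d : ℕ), x ∈ D ∧ IsAffineOpen D ∧ Nice g D d := by
  haveI : Coh.IsQCoh ((Scheme.Modules.pushforward g).obj (Coh.structureModule X')) :=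
    QCohLib.isQCoh_pushforward _ g
  obtain ⟨U, n, hxU, ⟨e⟩⟩ := FlatLocus.exists_free_nhd _ (isFP_push_structure (g := g)) x
    (haveI := h; (Module.Flat.of_free : Module.Flat (X.presheaf.stalk x) (((Coh.push g).obj (Coh.structureModule X')).presheaf.stalk x)))
  exact exists_nice_at (g := g) U.ι e (by rwa [Scheme.Opens.opensRange_ι])

end Groth.Agent.PinchLib
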