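import Groth.Agent.PinchLib.Bridge
import Groth.Agent.PinchLib.Integral
import Groth.Agent.AmpleEmb.FiniteSet
import Groth.Agent.S0021

/-!
# Ampleness and pinching along a closed subscheme proper over the base
-/

set_option autoImplicit false
set_option backward.isDefEq.respectTransparency false
set_option linter.style.haveILetI false

universe u

open CategoryTheory CategoryTheory.Limits AlgebraicGeometry TopologicalSpace Opposite

noncomputable section

namespace Groth.Agent.PinchLib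

variable {X X' T : Scheme.{u}}

theorem app_injective [IsReduced X] (h : X' ⟶ X) [Surjective h] (W : X.Opens) : Function.Injective (h.app W) := by
  refine (injective_iff_map_eq_zero (h.app W).hom).2 fun r hr => eq_zero_of_basicOpen_eq_bot r ?_
  refine le_bot_iff.1 fun x hx => ?_
  obtain ⟨z, rfl⟩ := h.surjective x
  have h1 : z ∈ h ⁻¹ᵁ X.basicOpen r := hx
  rw [Scheme.preimage_basicOpen, show h.app W r = 0 from hr, Scheme.basicOpen_zero] at h1
  exact h1

theorem isAffineOpen_of_preimage [IsNoetherian X] (h : X' ⟶ X) [IsFinite h] [Surjective h] {U : X.Opens}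
    (hU : IsAffineOpen (h ⁻¹ᵁ U)) : IsAffineOpen U := by
  haveI : IsAffine (h ⁻¹ᵁ U : Scheme.{u}) := hU
  haveI : IsFinite (h ∣_ U) := IsZariskiLocalAtTarget.restrict (P := @IsFinite) inferInstance U
  haveI : Surjective (h ∣_ U) := IsZariskiLocalAtTarget.restrict (P := @Surjective) inferInstance U
  haveI : IsLocallyNoetherian (U : Scheme.{u}) := isLocallyNoetherian_of_isOpenImmersion U.ι
  haveI : CompactSpace (U : Scheme.{u}) :=
    isCompact_iff_compactSpace.1 (TopologicalSpace.NoetherianSpace.isCompact (U : Set X))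
  haveI : IsNoetherian (U : Scheme.{u}) := { }
  exact Groth.Agent.S0021.result (h ∣_ U)

/-- The kernel on a fibre product with a closed immersion comes from the base. -/
theorem mem_map_of_pullback_eq_zero {V : Scheme.{u}} (h : X' ⟶ X) [IsAffineHom h] (i : V ⟶ X) [IsClosedImmersion i]
    {U : X.Opens} (hU : IsAffineOpen U) {b : Γ(X', h ⁻¹ᵁ U)}
    (hb : (pullback.fst h i).app (h ⁻¹ᵁ U) b = 0) :
    b ∈ (RingHom.ker (i.app U).hom).map (h.app U).hom := by
  let R := RingHom.ker (i.app U).hom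
  let J := R.map (h.app U).hom
  have hi : Function.Surjective (i.app U) := Scheme.Hom.app_surjective i U hU
  have hle : R ≤ RingHom.ker ((Ideal.Quotient.mk J).comp (h.app U).hom) := fun r hr => by
    rw [RingHom.mem_ker, RingHom.comp_apply, Ideal.Quotient.eq_zero_iff_mem]
    exact Ideal.mem_map_of_mem _ hr
  let ψ : Γ(V, i ⁻¹ᵁ U) →+* Γ(X', h ⁻¹ᵁ U) ⧸ J :=
    RingHom.liftOfSurjective (i.app U).hom hi ⟨(Ideal.Quotient.mk J).comp (h.app U).hom, hle⟩
  have hψ : ψ.comp (i.app U).hom = (Ideal.Quotient.mk J).comp (h.app U).hom :=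
    RingHom.liftOfSurjective_comp _ hi _
  let hc := IsPullback.of_hasPullback h i
  have := isIso_pushoutSection_of_isAffineOpen hc (le_refl (i ⁻¹ᵁ U)) (le_refl (h ⁻¹ᵁ U)) rfl hU
    (hU.preimage i) (hU.preimage h)
  have hp := (isIso_pushoutSection_iff hc (le_refl (i ⁻¹ᵁ U)) (le_refl (h ⁻¹ᵁ U)) rfl).mp this
  have w : h.appLE U (h ⁻¹ᵁ U) le_rfl ≫ CommRingCat.ofHom (Ideal.Quotient.mk J) =
      i.appLE U (i ⁻¹ᵁ U) le_rfl ≫ CommRingCat.ofHom ψ := by
    rw [← Scheme.Hom.app_eq_appLE, ← Scheme.Hom.app_eq_appLE]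
    exact CommRingCat.hom_ext hψ.symm
  have hd := hp.inl_desc _ _ w
  have h1 : Ideal.Quotient.mk J b = 0 := by
    refine (congrArg (fun g => g b) hd).symm.trans ?_
    show hp.desc _ _ w ((pullback.fst h i).appLE _ _ _ b) = 0
    have h2 : (pullback.fst h i).appLE (h ⁻¹ᵁ U) (pullback.fst h i ⁻¹ᵁ (h ⁻¹ᵁ U) ⊓
        pullback.snd h i ⁻¹ᵁ (i ⁻¹ᵁ U)) inf_le_left b = 0 := by
      show ((pullback.fst h i).app (h ⁻¹ᵁ U) ≫ (pullback h i).presheaf.map _) b = 0
      rw [CommRingCat.comp_apply, hb, map_zero]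
    rw [h2, map_zero]
  exact Ideal.Quotient.eq_zero_iff_mem.1 h1

theorem isAffineOpen_loc_neg {C : Cocyc X} {N : ℕ} {f : C.P} (hf : IsSec C N f) (ha : IsAffineOpen (loc f)) :
    IsSec C N (-f) ∧ IsAffineOpen (loc (-f)) := by
  refine ⟨fun k l => by simp only [Pi.neg_apply, map_neg, hf k l, mul_neg], ?_⟩
  convert ha using 1
  simp only [loc, Pi.neg_apply]
  refine iSup_congr fun k => ?_
  rw [neg_eq_neg_one_mul, Scheme.basicOpen_mul, Scheme.basicOpen_of_isUnit _ isUnit_one.neg]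
  exact inf_eq_right.2 (X.basicOpen_le _)

theorem isAffineOpen_loc_add {C : Cocyc X} {N : ℕ} {f g : C.P} (hf : IsSec C N f) (hg : IsSec C N g)
    (ha : IsAffineOpen (loc f)) (hb : IsAffineOpen (loc g)) : IsAffineOpen (loc (f + g)) := by
  have h := isAffineOpen_loc_sum (Finset.univ : Finset Bool) (f := fun b => bif b then f else g)
    (N := N) (fun b _ => by cases b <;> assumption) (fun b _ => by cases b <;> assumption)
  simpa using h

theorem pullP_constA {A : CommRingCat.{u}} (q : X ⟶ Spec A) (C : Cocyc X) (π : T ⟶ X) [IsAffineHom π] (a : A) :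
    C.pullP π (constA q C a) = constA (π ≫ q) (C.pull π) a := by
  funext k
  show π.app (C.O k) (rs le_top (q.appTop ((Scheme.ΓSpecIso A).inv a))) =
    rs le_top ((π ≫ q).appTop ((Scheme.ΓSpecIso A).inv a))
  rw [Scheme.Hom.comp_appTop, ← rs_app π le_top]
  rfl

/-- A power of a section on a closed subscheme lifts to a section with affine locus. -/
theorem exists_pow_lift [IsNoetherian X] {A : CommRingCat.{u}} (q : X ⟶ Spec A) {V : Scheme.{u}} (i : V ⟶ X)
    [IsClosedImmersion i] [UniversallyClosed (i ≫ q)] (C : Cocyc X) {D r : ℕ} (s : Fin r → C.P)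
    (hs : ∀ j, IsSec C D (s j)) (hsa : ∀ j, IsAffineOpen (loc (s j))) (hcov : ∀ x, ∃ j, x ∈ loc (s j))
    {t : (C.pull i).P} (ht : IsSec (C.pull i) D t) :
    ∃ n₀, ∀ n, n₀ ≤ n → ∃ f : C.P, IsSec C (n * D) f ∧ IsAffineOpen (loc f) ∧ C.pullP i f = t ^ n := by
  classical
  obtain ⟨k, hk⟩ := exists_integral_eq (i ≫ q) (C.pull i) t (fun j => C.pullP i (s j)) ht (fun j => (hs j).pull i)
    fun v => by
      obtain ⟨j, hj⟩ := hcov (i v)
      exact ⟨j, (loc_pull i (s j)).ge hj⟩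
  let Tn : ℕ → AddSubgroup (C.pull i).P := fun n =>
    { carrier := {a | ∃ f : C.P, IsSec C (n * D) f ∧ IsAffineOpen (loc f) ∧ C.pullP i f = a}
      zero_mem' := ⟨0, isSec_zero _, by rw [loc_zero]; exact isAffineOpen_bot X, map_zero _⟩
      add_mem' := by
        rintro _ _ ⟨f, hf, ha, rfl⟩ ⟨g, hg, hb, rfl⟩
        exact ⟨f + g, hf.add hg, isAffineOpen_loc_add hf hg ha hb, map_add _ _ _⟩
      neg_mem' := by
        rintro _ ⟨f, hf, ha, rfl⟩
        exact ⟨-f, (isAffineOpen_loc_neg hf ha).1, (isAffineOpen_loc_neg hf ha).2, map_neg _ _⟩ }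
  have hM : ∀ (l : Fin k) (j : Fin r), ∃ M : ℕ, ∀ m, M ≤ m → ∃ f : C.P, IsSec C ((l.1 + m) * D) f ∧
      IsAffineOpen (loc f) ∧ C.pullP i f = t ^ l.1 * C.pullP i (s j) ^ m := fun l j =>
    exists_lift i (hs j) (hsa j) (ht.pow l.1)
  choose M hM using hM
  let M₀ := Finset.univ.sup fun p : Fin k × Fin r => M p.1 p.2
  refine ⟨k + r * M₀, fun n hn => pow_mem_of_eq Tn hk ?_ hn⟩
  rintro l d a hl ⟨j, hj⟩
  obtain ⟨f, hf, hfa, hfe⟩ := hM ⟨l, hl⟩ j (d j)
    ((Finset.le_sup (f := fun p : Fin k × Fin r => M p.1 p.2) (Finset.mem_univ (⟨l, hl⟩, j))).trans hj)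
  have hprod : ∀ S : Finset (Fin r), IsSec C ((∑ w ∈ S, d w) * D) (∏ w ∈ S, s w ^ d w) := fun S => by
    induction S using Finset.induction with
    | empty => simpa using isSec_one (C := C)
    | insert w S hw ih =>
      rw [Finset.sum_insert hw, Finset.prod_insert hw, Nat.add_mul]
      exact ((hs w).pow _).mul ih
  have hg := (isSec_constA q C a).mul (hprod (Finset.univ.erase j))
  rw [zero_add] at hg
  refine ⟨f * (constA q C a * ∏ w ∈ Finset.univ.erase j, s w ^ d w), ?_, ?_, ?_⟩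
  · have h := hf.mul hg
    rwa [← Nat.add_mul, add_assoc, Finset.add_sum_erase _ _ (Finset.mem_univ j)] at h
  · rw [loc_mul hf hg, inf_comm]
    exact isAffineOpen_loc_inf hg hfa
  · rw [map_mul, map_mul, map_prod, hfe, pullP_constA, mon,
      ← Finset.mul_prod_erase _ _ (Finset.mem_univ j)]
    simp only [map_pow]
    ring

/-- Ampleness descends along a finite surjection which is an isomorphism up to a closed subscheme
proper over the base, on which the module is ample. -/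
theorem isAmple_of_pinch {A : CommRingCat.{u}} [IsNoetherian X] [IsReduced X] (q : X ⟶ Spec A)
    (h : X' ⟶ X) [IsFinite h] [Surjective h] {V : Scheme.{u}} (i : V ⟶ X) [IsClosedImmersion i]
    [UniversallyClosed (i ≫ q)]
    {L : X.Modules} {C : Cocyc X} {e : ∀ k, Γ(L, C.O k)} (he : IsFrame C L e)
    (hI : ∀ k, ∀ b ∈ (RingHom.ker (i.app (C.O k)).hom).map (h.app (C.O k)).hom, b ∈ Set.range (h.app (C.O k)))
    (hL : PicF.IsInvertible L) (hV : CohB1.IsAmple ((Scheme.Modules.pullback i).obj L))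
    (hL' : CohB1.IsAmple ((Scheme.Modules.pullback h).obj L)) : CohB1.IsAmple L := by
  classical
  haveI : IsLocallyNoetherian X' := LocallyOfFiniteType.isLocallyNoetherian h
  haveI : CompactSpace X' := QuasiCompact.compactSpace_of_compactSpace h
  haveI : IsNoetherian X' := { }
  have heh := he.pull h hL
  let π₁ := pullback.fst h i
  let π₂ := pullback.snd h i
  haveI : IsFinite π₂ := inferInstance
  haveI : Surjective π₂ := inferInstance
  haveI : UniversallyClosed (π₁ ≫ h ≫ q) := by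
    rw [show π₁ ≫ h ≫ q = π₂ ≫ i ≫ q by rw [← Category.assoc, pullback.condition, Category.assoc]]
    infer_instance
  let C₁ := C.pull h
  let C₂ := C₁.pull π₁
  have hle : ∀ U : X.Opens, π₁ ⁻¹ᵁ (h ⁻¹ᵁ U) ≤ π₂ ⁻¹ᵁ (i ⁻¹ᵁ U) := fun U => by
    rw [← Scheme.Hom.comp_preimage, ← Scheme.Hom.comp_preimage, pullback.condition]
  let τ : (C.pull i).P →+* C₂.P := RingHom.pi fun k =>
    (π₂.appLE (i ⁻¹ᵁ C.O k) (π₁ ⁻¹ᵁ (h ⁻¹ᵁ C.O k)) (hle _)).hom.comp (Pi.evalRingHom _ k)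
  have hcond : ∀ (U : X.Opens) (x : Γ(X, U)),
      π₂.appLE (i ⁻¹ᵁ U) (π₁ ⁻¹ᵁ (h ⁻¹ᵁ U)) (hle U) (i.app U x) = π₁.app (h ⁻¹ᵁ U) (h.app U x) := fun U x => by
    show (i.app U ≫ π₂.appLE _ _ _) x = (h.app U ≫ π₁.app _) x
    rw [← Scheme.Hom.comp_appLE, ← Scheme.Hom.comp_app, Scheme.Hom.app_eq_appLE]
    simp only [π₁, π₂, pullback.condition]
    rfl
  have hτsec : ∀ {N : ℕ} {a : (C.pull i).P}, IsSec (C.pull i) N a → IsSec C₂ N (τ a) := fun {N a} ha k l => by
    have h1 := congrArg (π₂.appLE _ _ (hle (C.O k ⊓ C.O l))).hom (ha k l)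
    rw [map_mul, map_pow] at h1
    erw [← rs_appLE π₂ (inf_le_left : i ⁻¹ᵁ C.O k ⊓ i ⁻¹ᵁ C.O l ≤ _)
        (inf_le_left : π₁ ⁻¹ᵁ (h ⁻¹ᵁ C.O k) ⊓ π₁ ⁻¹ᵁ (h ⁻¹ᵁ C.O l) ≤ _) (hle (C.O k)) (hle (C.O k ⊓ C.O l)),
      ← rs_appLE π₂ (inf_le_right : i ⁻¹ᵁ C.O k ⊓ i ⁻¹ᵁ C.O l ≤ _)
        (inf_le_right : π₁ ⁻¹ᵁ (h ⁻¹ᵁ C.O k) ⊓ π₁ ⁻¹ᵁ (h ⁻¹ᵁ C.O l) ≤ _) (hle (C.O l)) (hle (C.O k ⊓ C.O l)),
      hcond] at h1
    exact h1
  have hτloc : ∀ {N : ℕ} {a : (C.pull i).P}, IsSec (C.pull i) N a → ∀ w, w ∈ loc (τ a) ↔ π₂ w ∈ loc a := by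
    intro N a ha w
    obtain ⟨k, hk⟩ := C₂.cover w
    rw [mem_loc_iff (hτsec ha) hk, mem_loc_iff ha (k := k) (hle _ hk)]
    show w ∈ (pullback h i).basicOpen (π₂.appLE _ _ (hle (C.O k)) (a k)) ↔ _
    rw [Scheme.basicOpen_appLE]
    exact ⟨fun hw => hw.2, fun hw => ⟨hk, hw⟩⟩
  have descend : ∀ {N : ℕ} {f : C₁.P} {a : (C.pull i).P}, IsSec C₁ N f → C₁.pullP π₁ f = τ a →
      ∃ F : C.P, IsSec C N F ∧ C.pullP h F = f := fun {N f a} hf hfa => by
    have hloc : ∀ k, ∃ F : Γ(X, C.O k), h.app (C.O k) F = f k := fun k => by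
      obtain ⟨a₀, ha₀⟩ := Scheme.Hom.app_surjective i (C.O k) (C.aff k) (a k)
      have hz : π₁.app (h ⁻¹ᵁ C.O k) (f k - h.app (C.O k) a₀) = 0 := by
        rw [map_sub, ← hcond, ha₀, sub_eq_zero]
        exact congrFun hfa k
      obtain ⟨c, hc⟩ := hI k _ (mem_map_of_pullback_eq_zero h i (C.aff k) hz)
      exact ⟨a₀ + c, by rw [map_add, hc, add_sub_cancel]⟩
    choose F hF using hloc
    refine ⟨F, fun k l => app_injective h _ ?_, funext hF⟩
    rw [map_mul, map_pow, ← rs_app, ← rs_app, hF, hF]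
    exact hf k l
  refine isAmple_of_exists he hL fun x => ?_
  have finish : ∀ {N : ℕ} {f : C₁.P} {a : (C.pull i).P}, IsSec C₁ (N + 1) f → C₁.pullP π₁ f = τ a →
      IsAffineOpen (loc f) → (∀ x' : X', h x' = x → x' ∈ loc f) →
      ∃ (N : ℕ) (F : C.P), IsSec C (N + 1) F ∧ x ∈ loc F ∧ IsAffineOpen (loc F) := fun {N f a} hf hfa haff hx => by
    obtain ⟨F, hF, rfl⟩ := descend hf hfa
    refine ⟨N, F, hF, ?_, isAffineOpen_of_preimage h (by rw [← loc_pull]; exact haff)⟩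
    obtain ⟨x', hx'⟩ := h.surjective x
    exact hx' ▸ (loc_pull h F).le (hx x' hx')
  by_cases hxV : x ∈ Set.range i
  · obtain ⟨v, rfl⟩ := hxV
    obtain ⟨Nt, a, ha, hva, -⟩ := exists_of_isAmple (he.pull i hL) hV v
    choose N f hf hxf hfa using fun y : X' => exists_of_isAmple heh hL' y
    obtain ⟨S, hS⟩ := isCompact_univ.elim_finite_subcover (fun y => (loc (f y) : Set X'))
      (fun y => (loc (f y)).isOpen) fun y _ => Set.mem_iUnion.2 ⟨y, hxf y⟩
    let D := (∏ y ∈ S, (N y + 1)) * (Nt + 1)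
    have hD : 0 < D := Nat.mul_pos (Finset.prod_pos fun y _ => Nat.succ_pos _) (Nat.succ_pos _)
    have hdvd : ∀ y ∈ S, (N y + 1) ∣ D := fun y hy =>
      Dvd.dvd.mul_right (Finset.dvd_prod_of_mem (fun y => N y + 1) hy) _
    let y : Fin S.card → X' := fun j => (S.equivFin.symm j).1
    let s : Fin S.card → C₁.P := fun j => f (y j) ^ (D / (N (y j) + 1))
    have hs : ∀ j, IsSec C₁ D (s j) := fun j => by
      have h := (hf (y j)).pow (D / (N (y j) + 1))
      rwa [Nat.div_mul_cancel (hdvd _ (S.equivFin.symm j).2)] at h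
    have hpos : ∀ j, 0 < D / (N (y j) + 1) := fun j =>
      Nat.div_pos (Nat.le_of_dvd hD (hdvd _ (S.equivFin.symm j).2)) (Nat.succ_pos _)
    have hm : 0 < D / (Nt + 1) := by
      rw [Nat.mul_div_cancel _ (Nat.succ_pos Nt)]
      exact Finset.prod_pos fun y _ => Nat.succ_pos _
    let a' := a ^ (D / (Nt + 1))
    have ha' : IsSec (C.pull i) D a' := by
      have h := ha.pow (D / (Nt + 1))
      rwa [Nat.div_mul_cancel (Dvd.intro_left _ rfl)] at h
    obtain ⟨n₀, hn₀⟩ := exists_pow_lift (h ≫ q) π₁ C₁ s hs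
      (fun j => by rw [loc_pow (hpos j)]; exact hfa _)
      (fun z => by
        obtain ⟨w, hw, hzw⟩ := Set.mem_iUnion₂.1 (hS (Set.mem_univ z))
        refine ⟨S.equivFin ⟨w, hw⟩, ?_⟩
        rw [loc_pow (hpos _)]
        simp only [y, Equiv.symm_apply_apply]
        exact hzw)
      (hτsec ha')
    obtain ⟨g, hg, hga, hge⟩ := hn₀ (n₀ + 1) n₀.le_succ
    obtain ⟨M, hM⟩ : ∃ M, (n₀ + 1) * D = M + 1 :=
      ⟨_, (Nat.succ_pred_eq_of_pos (Nat.mul_pos n₀.succ_pos hD)).symm⟩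
    rw [hM] at hg
    refine finish hg (a := a' ^ (n₀ + 1)) (by simp only [hge, a', map_pow]) hga fun x' hx' => ?_
    obtain ⟨w, hw₁, hw₂⟩ := Scheme.Pullback.exists_preimage_pullback x' v hx'
    have h1 : w ∈ loc (τ a') := (hτloc ha' w).2 (by rw [hw₂, loc_pow hm]; exact hva)
    rw [← loc_pow (n₀.succ_pos) (f := τ a'), ← hge, loc_pull] at h1
    exact hw₁ ▸ h1
  · have hfin : (h ⁻¹' {x} : Set X').Finite := h.finite_preimage_singleton x
    let U : X'.Opens := ⟨(Set.range π₁)ᶜ, π₁.isClosedEmbedding.isClosed_range.isOpen_compl⟩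
    have hU : (h ⁻¹' {x} : Set X') ⊆ U := fun x' hx' hr => by
      obtain ⟨w, rfl⟩ := hr
      refine hxV ⟨π₂ w, ?_⟩
      rw [← Scheme.Hom.comp_apply, ← pullback.condition, Scheme.Hom.comp_apply]
      exact hx'
    obtain ⟨n, σ, hσ, hσU, hσa⟩ := AmpleEmb.exists_genLocus_finite hL' hfin hU
    obtain ⟨f, hf, hfl⟩ := exists_sec_of_hom heh σ
    haveI : IsLocallyNoetherian (pullback h i) := LocallyOfFiniteType.isLocallyNoetherian π₁
    have hnil : ∀ k, IsNilpotent (C₁.pullP π₁ f k) := fun k => by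
      rw [Scheme.isNilpotent_iff_basicOpen_eq_bot_of_isCompact (((C₁.aff k).preimage π₁).isCompact)]
      refine le_bot_iff.1 fun w hw => ?_
      have h1 : w ∈ loc (C₁.pullP π₁ f) := Opens.mem_iSup.2 ⟨k, hw⟩
      rw [loc_pull, hfl] at h1
      exact hσU h1 ⟨w, rfl⟩
    choose j hj using hnil
    obtain ⟨m, hm⟩ : IsNilpotent (C₁.pullP π₁ f) :=
      ⟨Finset.univ.sup j, funext fun k => pow_eq_zero_of_le (Finset.le_sup (Finset.mem_univ k)) (hj k)⟩
    obtain ⟨M, hM⟩ : ∃ M, (m + 1) * (n + 1) = M + 1 :=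
      ⟨_, (Nat.succ_pred_eq_of_pos (Nat.mul_pos m.succ_pos n.succ_pos)).symm⟩
    have hg := hf.pow (m + 1)
    rw [hM] at hg
    refine finish hg (a := 0) (by rw [map_pow, map_zero, pow_succ, hm, zero_mul]) ?_ fun x' hx' => ?_
    · rw [loc_pow m.succ_pos, hfl]
      exact hσa
    · rw [loc_pow m.succ_pos, hfl]
      exact hσ hx'

end Groth.Agent.PinchLib
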