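import Groth.Agent.PinchLib.Model
import Groth.Agent.DVRCrit.Generic
import Groth.Agent.AmpleLib.Thickening

/-!
# Relative ampleness along a finite cover with exceptional set proper over the base
-/

set_option autoImplicit false
set_option backward.isDefEq.respectTransparency false
set_option linter.style.haveILetI false

universe u

open CategoryTheory CategoryTheory.Limits AlgebraicGeometry TopologicalSpace

noncomputable section

namespace Groth.Agent.PinchLib

theorem bijective_stalkMap_of_surjective {U X₀ : Scheme.{u}} (r : X₀ ⟶ U) [IsClosedImmersion r] [Surjective r]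
    (x : X₀) [IsDomain (U.presheaf.stalk (r x))] : Function.Bijective (r.stalkMap x) := by
  refine ⟨(injective_iff_map_eq_zero (r.stalkMap x).hom).2 fun σ hσ => ?_, r.stalkMap_surjective x⟩
  obtain ⟨D, hxD, a, rfl⟩ := U.presheaf.exists_germ_eq σ
  have h0 : X₀.presheaf.germ (r ⁻¹ᵁ D) x hxD (r.app D a) =
      X₀.presheaf.germ (r ⁻¹ᵁ D) x hxD (0 : Γ(X₀, r ⁻¹ᵁ D)) := by
    rw [map_zero, ← Scheme.Hom.germ_stalkMap_apply]
    exact hσ
  obtain ⟨W, hxW, iW, iW', hW⟩ := TopCat.Presheaf.germ_eq X₀.presheaf x hxD hxD _ _ h0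
  rw [map_zero] at hW
  obtain ⟨W', hW'o, hW'⟩ := r.isClosedEmbedding.isInducing.isOpen_iff.1 W.2
  have hxW' : r x ∈ (⟨W', hW'o⟩ : U.Opens) ⊓ D := ⟨hW'.ge hxW, hxD⟩
  obtain ⟨_, ⟨E, hE, rfl⟩, hxE, hED⟩ :=
    U.isBasis_affineOpens.exists_subset_of_mem_open hxW' ((⟨W', hW'o⟩ : U.Opens) ⊓ D).2
  have hEW : r ⁻¹ᵁ E ≤ W := fun z hz => hW'.le (hED hz).1
  have hED' : E ≤ D := fun z hz => (hED hz).2
  have hz : r.app E (U.presheaf.map (homOfLE hED').op a) = 0 := by
    have h1 := congrArg (X₀.presheaf.map (homOfLE hEW).op).hom hW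
    rw [map_zero, ← CommRingCat.comp_apply, ← Functor.map_comp] at h1
    exact (rs_app r hED' a).symm.trans h1
  have hnil : IsNilpotent (U.presheaf.map (homOfLE hED').op a) := by
    rw [Scheme.isNilpotent_iff_basicOpen_eq_bot_of_isCompact hE.isCompact]
    refine le_bot_iff.1 fun y hy => ?_
    obtain ⟨z, rfl⟩ := r.surjective y
    have h1 : z ∈ r ⁻¹ᵁ U.basicOpen (U.presheaf.map (homOfLE hED').op a) := hy
    rw [Scheme.preimage_basicOpen, hz, Scheme.basicOpen_zero] at h1
    exact h1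
  have h2 := (hnil.map (U.presheaf.germ E (r x) hxE).hom).eq_zero
  exact (TopCat.Presheaf.germ_res_apply U.presheaf (homOfLE hED') (r x) hxE a).symm.trans h2

theorem isRelAmple_iff_of_cover {X X' Y : Scheme.{u}} (f : X ⟶ Y)
    [IsNoetherian Y] [LocallyOfFiniteType f] [QuasiCompact f] (g : X' ⟶ X) [IsFinite g] [Surjective g]
    (L : X.Modules) (hL : PicF.IsInvertible L) (Z : Set X) (hZ : ClSub.IsProperOver f Z)
    (hreg : ∀ x : X, x ∉ Z →
      (IsDomain (X.presheaf.stalk x) ∧ IsIntegrallyClosed (X.presheaf.stalk x)) ∨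
        Module.Free (X.presheaf.stalk x) (((Coh.push g).obj (Coh.structureModule X')).presheaf.stalk x)) :
    RelAmple.IsRelAmple f L ↔ RelAmple.IsRelAmple (g ≫ f) ((Scheme.Modules.pullback g).obj L) := by
  constructor
  · intro h
    exact Groth.Agent.AmpleLib.isRelAmple_pullback_quasiAffine g
      ⟨inferInstance, fun V hV => by haveI : IsAffine (g ⁻¹ᵁ V : Scheme.{u}) := hV.preimage g; infer_instance⟩ h
  intro h
  haveI : IsLocallyNoetherian X := LocallyOfFiniteType.isLocallyNoetherian f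
  haveI : CompactSpace X := QuasiCompact.compactSpace_of_compactSpace f
  haveI : IsNoetherian X := { }
  refine ⟨inferInstance, fun V => ?_⟩
  let U := f ⁻¹ᵁ V.1
  haveI : IsAffine (V.1 : Scheme.{u}) := V.2
  haveI : IsNoetherianRing Γ(Y, V.1) := IsLocallyNoetherian.component_noetherian V
  haveI : CompactSpace (U : Scheme.{u}) := isCompact_iff_compactSpace.1 (f.isCompact_preimage V.2.isCompact)
  let I : (U : Scheme.{u}).IdealSheafData := Scheme.IdealSheafData.vanishingIdeal (⊤ : TopologicalSpace.Closeds U)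
  let r := I.subschemeι
  haveI : IsReduced I.subscheme := Groth.Agent.DVRCrit.isReduced_vanishingIdeal _
  haveI : Surjective r := ⟨fun x => (Set.ext_iff.1 (show Set.range r = Set.univ by
    rw [Scheme.IdealSheafData.range_subschemeι, Scheme.IdealSheafData.coe_support_vanishingIdeal]; rfl) x).2 trivial⟩
  haveI : IsFinite (g ∣_ U) := IsZariskiLocalAtTarget.restrict (P := @IsFinite.{u}) inferInstance U
  haveI : Surjective (g ∣_ U) := IsZariskiLocalAtTarget.restrict (P := @Surjective.{u}) inferInstance U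
  haveI : LocallyOfFiniteType (f ∣_ V.1) := IsZariskiLocalAtTarget.restrict (P := @LocallyOfFiniteType.{u}) inferInstance V.1
  let q : I.subscheme ⟶ Spec Γ(Y, V.1) := r ≫ (f ∣_ V.1) ≫ V.2.isoSpec.hom
  haveI : IsLocallyNoetherian I.subscheme := LocallyOfFiniteType.isLocallyNoetherian q
  haveI : CompactSpace I.subscheme := QuasiCompact.compactSpace_of_compactSpace r
  haveI : IsNoetherian I.subscheme := { }
  refine (Groth.Agent.AmpleLib.isAmple_iff_of_surjective_closedImmersion r r.surjective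
    (Groth.Agent.ParaFLib.isInvertible_restrict U.ι hL)).1 ?_
  let g₀ := Limits.pullback.snd (g ∣_ U) r
  have hsq : IsPullback (Limits.pullback.fst (g ∣_ U) r ≫ (g ⁻¹ᵁ U).ι) g₀ g (r ≫ U.ι) :=
    (IsPullback.of_hasPullback (g ∣_ U) r).paste_horiz (isPullback_morphismRestrict g U).flip
  -- the exceptional set
  obtain ⟨hZc, hZp⟩ := hZ
  let j := (Scheme.IdealSheafData.vanishingIdeal ⟨Z, hZc⟩).subschemeι
  haveI : IsProper (j ≫ f) := hZp
  let j₀ := Limits.pullback.fst r (j ∣_ U)
  have hrj : Set.range j = Z := by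
    rw [Scheme.IdealSheafData.range_subschemeι, Scheme.IdealSheafData.coe_support_vanishingIdeal]
    rfl
  have hj₀ : Set.range j₀ = (r ≫ U.ι) ⁻¹' Z := by
    rw [Scheme.Pullback.range_fst]
    ext x
    constructor
    · rintro ⟨w, hw⟩
      show _ ∈ Z
      rw [← hrj]
      refine ⟨(j ⁻¹ᵁ U).ι w, ?_⟩
      rw [← Scheme.Hom.comp_apply, ← morphismRestrict_ι, Scheme.Hom.comp_apply, hw]
      rfl
    · intro hx
      obtain ⟨z, hz⟩ := hrj.ge hx
      have hzU : j z ∈ U := by rw [hz]; exact (r x).2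
      refine ⟨⟨z, hzU⟩, U.ι.isOpenEmbedding.injective ?_⟩
      rw [← Scheme.Hom.comp_apply, morphismRestrict_ι]
      exact hz
  have hZ₀ : ClSub.IsProperOver q ((r ≫ U.ι) ⁻¹' Z) := by
    refine (Groth.Agent.ClSubLib.isProperOver_iff q j₀ hj₀).2 ?_
    haveI : IsProper ((j ≫ f) ∣_ V.1) := IsZariskiLocalAtTarget.restrict (P := @IsProper.{u}) inferInstance V.1
    have e : j₀ ≫ q = Limits.pullback.snd r (j ∣_ U) ≫ ((j ≫ f) ∣_ V.1) ≫ V.2.isoSpec.hom := by
      rw [morphismRestrict_comp, ← Category.assoc, Limits.pullback.condition]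
      simp only [Category.assoc]
      rfl
    rw [e]
    haveI : IsProper (((j ≫ f) ∣_ V.1) ≫ V.2.isoSpec.hom) := inferInstance
    exact MorphismProperty.comp_mem (W := @IsProper.{u}) (Limits.pullback.snd r (j ∣_ U))
      (((j ≫ f) ∣_ V.1) ≫ V.2.isoSpec.hom) inferInstance inferInstance
  -- the cover
  have hamp : CohB1.IsAmple ((Scheme.Modules.pullback g₀).obj ((Scheme.Modules.pullback r).obj (L.restrict U.ι))) := by
    have h1 : CohB1.IsAmple ((Scheme.Modules.pullback (g ∣_ U)).obj (L.restrict U.ι)) :=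
      Groth.Agent.AmpleLib.isAmple_of_iso
        (Groth.Agent.AmpleLib.pullRestr g (g ⁻¹ᵁ U).ι U.ι (g ∣_ U) (morphismRestrict_ι g U).symm L) (h.2 V)
    exact Groth.Agent.AmpleLib.isAmple_of_iso
      ((Scheme.Modules.pullbackComp (Limits.pullback.fst (g ∣_ U) r) (g ∣_ U)).app _ ≪≫
        (Scheme.Modules.pullbackCongr Limits.pullback.condition).app _ ≪≫
          ((Scheme.Modules.pullbackComp g₀ r).app _).symm) (Groth.Agent.AmpleLib.isAmple_pullback _ h1)
  refine Groth.Agent.PinchLib.isAmple_of_cover q g₀ hZ₀ (fun x hx => ?_)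
    (Groth.Agent.AmpleLib.isInvertible_pullback r (Groth.Agent.ParaFLib.isInvertible_restrict U.ι hL)) hamp
  rcases hreg ((r ≫ U.ι) x) hx with ⟨h1, h2⟩ | h1
  · left
    let eU := (asIso (U.ι.stalkMap (r x))).commRingCatIsoToRingEquiv
    haveI : IsDomain (X.presheaf.stalk (U.ι (r x))) := h1
    haveI : IsIntegrallyClosed (X.presheaf.stalk (U.ι (r x))) := h2
    haveI : IsDomain ((U : Scheme.{u}).presheaf.stalk (r x)) := eU.symm.toMulEquiv.isDomain
    let er := RingEquiv.ofBijective (r.stalkMap x).hom (bijective_stalkMap_of_surjective r x)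
    haveI : IsDomain (I.subscheme.presheaf.stalk x) := er.symm.toMulEquiv.isDomain
    exact ⟨inferInstance, IsIntegrallyClosed.of_equiv (eU.trans er)⟩
  · right
    obtain ⟨D, d, hxD, hD, hn⟩ := Groth.Agent.PinchLib.exists_nice_of_free g _ h1
    obtain ⟨_, ⟨D₀, hD₀, rfl⟩, hxD₀, hle⟩ := I.subscheme.isBasis_affineOpens.exists_subset_of_mem_open
      (show x ∈ (r ≫ U.ι) ⁻¹ᵁ D from hxD) ((r ≫ U.ι) ⁻¹ᵁ D).2
    exact ⟨D₀, d, hxD₀, hD₀, Groth.Agent.PinchLib.nice_of_isPullback hsq hD hn hD₀ hle⟩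

end Groth.Agent.PinchLib
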