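import Mathlib.AlgebraicGeometry.Morphisms.Affine
import Mathlib.AlgebraicGeometry.Morphisms.ClosedImmersion
import Mathlib.AlgebraicGeometry.Morphisms.QuasiCompact
import Mathlib.AlgebraicGeometry.Noetherian

/-!
# Sections of powers of a line bundle given by a cocycle

For a finite affine cover `O k` and units `u k l` on the overlaps, a section of degree `N` is a family
of functions `f k` with `f k = u k l ^ N * f l` on overlaps.
-/

set_option autoImplicit false
set_option linter.style.haveILetI false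

universe u

open CategoryTheory AlgebraicGeometry TopologicalSpace Opposite

noncomputable section

namespace Groth.Agent.PinchLib

variable {X T : Scheme.{u}}

/-- Restriction of functions. -/
def rs {a b : X.Opens} (h : b ≤ a) : Γ(X, a) →+* Γ(X, b) := (X.presheaf.map (homOfLE h).op).hom

theorem basicOpen_rs {a b : X.Opens} (h : b ≤ a) (x : Γ(X, a)) : X.basicOpen (rs h x) = b ⊓ X.basicOpen x :=
  Scheme.basicOpen_res _ _ _

theorem isUnit_rs_basicOpen {a b : X.Opens} {x : Γ(X, a)} (h : b ≤ a) (h' : b ≤ X.basicOpen x) :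
    IsUnit (rs h x) := by
  have h1 := (RingedSpace.isUnit_res_basicOpen X.toRingedSpace x).map (X.presheaf.map (homOfLE h').op).hom
  have h2 : (X.presheaf.map (homOfLE h').op).hom ((X.presheaf.map (homOfLE (X.basicOpen_le x)).op).hom x) =
      rs h x := by
    rw [← CommRingCat.comp_apply, ← Functor.map_comp]
    rfl
  exact h2 ▸ h1

theorem rs_rs {a b c : X.Opens} (h : b ≤ a) (h' : c ≤ b) (x : Γ(X, a)) : rs h' (rs h x) = rs (h'.trans h) x := by
  rw [rs, rs, rs, ← CommRingCat.comp_apply, ← Functor.map_comp]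
  rfl

theorem rs_self {a : X.Opens} (h : a ≤ a) (x : Γ(X, a)) : rs h x = x :=
  ConcreteCategory.congr_hom (X.presheaf.map_id _) x

theorem rs_appLE (π : T ⟶ X) {a b : X.Opens} {a' b' : T.Opens} (h : b ≤ a) (h' : b' ≤ a') (e : a' ≤ π ⁻¹ᵁ a)
    (e' : b' ≤ π ⁻¹ᵁ b) (x : Γ(X, a)) : rs h' (π.appLE a a' e x) = π.appLE b b' e' (rs h x) := by
  rw [rs, rs, ← CommRingCat.comp_apply, ← CommRingCat.comp_apply, Scheme.Hom.appLE_map,
    Scheme.Hom.map_appLE]

theorem rs_app (π : T ⟶ X) {a b : X.Opens} (h : b ≤ a) (x : Γ(X, a)) :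
    rs (π.preimage_mono h) (π.app a x) = π.app b (rs h x) := by
  rw [Scheme.Hom.app_eq_appLE, Scheme.Hom.app_eq_appLE]
  exact rs_appLE π h (π.preimage_mono h) le_rfl le_rfl x

variable (X) in
/-- A finite affine cover with units on the overlaps. -/
structure Cocyc where
  /-- The index type. -/
  K : Type u
  [fin : Fintype K]
  /-- The cover. -/
  O : K → X.Opens
  aff : ∀ k, IsAffineOpen (O k)
  cover : ∀ x : X, ∃ k, x ∈ O k
  /-- The units. -/
  u : ∀ k l, Γ(X, O k ⊓ O l)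
  unit : ∀ k l, IsUnit (u k l)

attribute [instance] Cocyc.fin

/-- Inverse image of a cocycle. -/
@[reducible] def Cocyc.pull (C : Cocyc X) (π : T ⟶ X) [IsAffineHom π] : Cocyc T where
  K := C.K
  O k := π ⁻¹ᵁ C.O k
  aff k := (C.aff k).preimage π
  cover x := C.cover (π x)
  u k l := π.app (C.O k ⊓ C.O l) (C.u k l)
  unit k l := (C.unit k l).map (π.app (C.O k ⊓ C.O l)).hom

/-- Families of functions on the cover. -/
abbrev Cocyc.P (C : Cocyc X) : Type u := ∀ k, Γ(X, C.O k)

variable {C : Cocyc X}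

/-- The family is a section of degree `N`. -/
def IsSec (C : Cocyc X) (N : ℕ) (f : C.P) : Prop :=
  ∀ k l, rs (inf_le_left : C.O k ⊓ C.O l ≤ _) (f k) = C.u k l ^ N * rs inf_le_right (f l)

theorem IsSec.mul {N M : ℕ} {f g : C.P} (hf : IsSec C N f) (hg : IsSec C M g) : IsSec C (N + M) (f * g) :=
  fun k l => by
    simp only [Pi.mul_apply, map_mul, hf k l, hg k l, pow_add]
    ring

theorem IsSec.add {N : ℕ} {f g : C.P} (hf : IsSec C N f) (hg : IsSec C N g) : IsSec C N (f + g) := fun k l => by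
  simp only [Pi.add_apply, map_add, hf k l, hg k l, mul_add]

theorem isSec_zero (N : ℕ) : IsSec C N (0 : C.P) := fun k l => by simp

theorem isSec_one : IsSec C 0 (1 : C.P) := fun k l => by simp

theorem IsSec.pow {N : ℕ} {f : C.P} (hf : IsSec C N f) : ∀ n, IsSec C (n * N) (f ^ n)
  | 0 => by simpa using isSec_one (C := C)
  | n + 1 => by
    rw [Nat.succ_mul, pow_succ]
    exact (IsSec.pow hf n).mul hf

theorem isSec_sum {ι : Type*} {N : ℕ} (s : Finset ι) {f : ι → C.P} (hf : ∀ i ∈ s, IsSec C N (f i)) :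
    IsSec C N (∑ i ∈ s, f i) :=
  Finset.sum_induction f (IsSec C N) (fun _ _ h h' => h.add h') (isSec_zero N) hf

theorem isSec_const (a : Γ(X, ⊤)) : IsSec C 0 (fun k => rs (le_top : C.O k ≤ ⊤) a : C.P) := fun k l => by
  rw [pow_zero, one_mul, rs_rs, rs_rs]

/-- Inverse image of a family. -/
def Cocyc.pullP (C : Cocyc X) (π : T ⟶ X) [IsAffineHom π] : C.P →+* (C.pull π).P where
  toFun f k := π.app (C.O k) (f k)
  map_one' := funext fun _ => map_one (π.app _).hom
  map_mul' f g := funext fun k => map_mul (π.app _).hom (f k) (g k)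
  map_zero' := funext fun _ => map_zero (π.app _).hom
  map_add' f g := funext fun k => map_add (π.app _).hom (f k) (g k)

theorem pullP_apply (π : T ⟶ X) [IsAffineHom π] (f : C.P) (k : C.K) :
    C.pullP π f k = π.app (C.O k) (f k) := rfl

theorem IsSec.pull (π : T ⟶ X) [IsAffineHom π] {N : ℕ} {f : C.P} (hf : IsSec C N f) :
    IsSec (C.pull π) N (C.pullP π f) := fun k l => by
  have h := congrArg (π.app (C.O k ⊓ C.O l)).hom (hf k l)
  rw [map_mul, map_pow] at h
  show rs (π.preimage_mono inf_le_left) (π.app (C.O k) (f k)) =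
    π.app (C.O k ⊓ C.O l) (C.u k l) ^ N * rs (π.preimage_mono inf_le_right) (π.app (C.O l) (f l))
  rw [rs_app, rs_app]
  exact h

/-- The locus where a family does not vanish. -/
def loc (f : C.P) : X.Opens := ⨆ k, X.basicOpen (f k)

theorem loc_inf {N : ℕ} {f : C.P} (hf : IsSec C N f) (k : C.K) : loc f ⊓ C.O k = X.basicOpen (f k) := by
  refine le_antisymm ?_ (le_inf (le_iSup (fun l => X.basicOpen (f l)) k) (X.basicOpen_le _))
  rintro x ⟨hx, hxk⟩
  obtain ⟨l, hl⟩ := Opens.mem_iSup.1 hx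
  have h : x ∈ X.basicOpen (C.u k l ^ N * rs inf_le_right (f l)) := by
    rw [Scheme.basicOpen_mul, Scheme.basicOpen_of_isUnit _ ((C.unit k l).pow N), basicOpen_rs]
    exact ⟨⟨hxk, X.basicOpen_le _ hl⟩, ⟨hxk, X.basicOpen_le _ hl⟩, hl⟩
  rw [← hf k l, basicOpen_rs] at h
  exact h.2

theorem mem_loc_iff {N : ℕ} {f : C.P} (hf : IsSec C N f) {k : C.K} {x : X} (hx : x ∈ C.O k) :
    x ∈ loc f ↔ x ∈ X.basicOpen (f k) := by
  rw [← loc_inf hf k]
  exact ⟨fun h => ⟨h, hx⟩, fun h => h.1⟩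

theorem loc_zero : loc (0 : C.P) = ⊥ := by simp [loc]

theorem loc_one : loc (1 : C.P) = ⊤ := eq_top_iff.2 fun x _ => by
  obtain ⟨k, hk⟩ := C.cover x
  exact Opens.mem_iSup.2 ⟨k, by simpa using hk⟩

theorem loc_mul {N M : ℕ} {f g : C.P} (hf : IsSec C N f) (hg : IsSec C M g) : loc (f * g) = loc f ⊓ loc g := by
  refine Opens.ext (Set.ext fun x => ?_)
  obtain ⟨k, hk⟩ := C.cover x
  show x ∈ loc (f * g) ↔ x ∈ loc f ∧ x ∈ loc g
  rw [mem_loc_iff (hf.mul hg) hk, mem_loc_iff hf hk, mem_loc_iff hg hk, Pi.mul_apply, Scheme.basicOpen_mul]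
  rfl

theorem loc_pow {f : C.P} {n : ℕ} (hn : 0 < n) : loc (f ^ n) = loc f := by
  simp only [loc, Pi.pow_apply, fun k => Scheme.basicOpen_pow X (f k) hn]

theorem loc_pull (π : T ⟶ X) [IsAffineHom π] (f : C.P) : loc (C.pullP π f) = π ⁻¹ᵁ loc f := by
  refine Opens.ext (Set.ext fun x => ?_)
  show x ∈ loc (C.pullP π f) ↔ π x ∈ loc f
  rw [loc, loc, Opens.mem_iSup, Opens.mem_iSup]
  refine exists_congr fun k => ?_
  rw [pullP_apply, ← Scheme.preimage_basicOpen]
  rfl

theorem isAffineOpen_loc_inf {N : ℕ} {f : C.P} (hf : IsSec C N f) {W : X.Opens} (hW : IsAffineOpen W) :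
    IsAffineOpen (loc f ⊓ W) := by
  haveI : IsAffineHom (loc f).ι := isAffineHom_of_forall_exists_isAffineOpen (f := (loc f).ι) fun x => by
    obtain ⟨k, hk⟩ := C.cover x
    refine ⟨C.O k, hk, C.aff k, ?_⟩
    rw [← (loc f).ι.isAffineOpen_iff_of_isOpenImmersion, Scheme.Hom.image_preimage_eq_opensRange_inf,
      Scheme.Opens.opensRange_ι, loc_inf hf k]
    exact (C.aff k).basicOpen _
  have h := (hW.preimage (loc f).ι).image_of_isOpenImmersion (loc f).ι
  rwa [Scheme.Hom.image_preimage_eq_opensRange_inf, Scheme.Opens.opensRange_ι] at h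

theorem eq_of_rs_eq {ι : Type u} (U : ι → X.Opens) {V : X.Opens} (hU : ∀ i, U i ≤ V) (hcov : V ≤ iSup U)
    {a b : Γ(X, V)} (h : ∀ i, rs (hU i) a = rs (hU i) b) : a = b :=
  X.sheaf.eq_of_locally_eq' U V (fun i => homOfLE (hU i)) hcov a b h

/-- The ratio of two sections of the same degree on the locus of the second. -/
theorem exists_ratio {N : ℕ} {f s : C.P} (hf : IsSec C N f) (hs : IsSec C N s) :
    ∃ g : Γ(X, loc s), (∀ k, rs (inf_le_left : loc s ⊓ C.O k ≤ _) g * rs inf_le_right (s k) =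
        rs inf_le_right (f k)) ∧ X.basicOpen g = loc s ⊓ loc f := by
  classical
  have hu : ∀ k, IsUnit (rs (inf_le_right : loc s ⊓ C.O k ≤ _) (s k)) := fun k =>
    isUnit_rs_basicOpen _ (loc_inf hs k).le
  choose v hv using hu
  let gf : ∀ k, Γ(X, loc s ⊓ C.O k) := fun k =>
    rs (inf_le_right : loc s ⊓ C.O k ≤ _) (f k) * ↑(v k)⁻¹
  have hgf : ∀ k, gf k * rs inf_le_right (s k) = rs inf_le_right (f k) := fun k => by
    simp only [gf]
    rw [← hv k, mul_assoc, Units.inv_mul, mul_one]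
  have hcomp : TopCat.Presheaf.IsCompatible X.sheaf.1 (fun k => loc s ⊓ C.O k) gf := fun k l => by
    let O := (loc s ⊓ C.O k) ⊓ (loc s ⊓ C.O l)
    have hO : O ≤ C.O k ⊓ C.O l := le_inf (inf_le_left.trans inf_le_right) (inf_le_right.trans inf_le_right)
    show rs (inf_le_left : O ≤ _) (gf k) = rs (inf_le_right : O ≤ _) (gf l)
    have hsk : IsUnit (rs (hO.trans inf_le_left) (s k)) :=
      isUnit_rs_basicOpen _ ((inf_le_left : O ≤ _).trans (loc_inf hs k).le)
    apply hsk.mul_left_injective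
    show rs _ (gf k) * _ = rs _ (gf l) * _
    have e1 : rs (inf_le_left : O ≤ _) (gf k) * rs (hO.trans inf_le_left) (s k) = rs (hO.trans inf_le_left) (f k) := by
      have h := congrArg (rs (inf_le_left : O ≤ loc s ⊓ C.O k)) (hgf k)
      simpa only [map_mul, rs_rs] using h
    have e2 : rs (inf_le_right : O ≤ _) (gf l) * rs (hO.trans inf_le_right) (s l) =
        rs (hO.trans inf_le_right) (f l) := by
      have h := congrArg (rs (inf_le_right : O ≤ loc s ⊓ C.O l)) (hgf l)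
      simpa only [map_mul, rs_rs] using h
    have key : ∀ w : C.P, IsSec C N w →
        rs (hO.trans inf_le_left) (w k) = rs hO (C.u k l) ^ N * rs (hO.trans inf_le_right) (w l) := fun w hw => by
      have h := congrArg (rs hO) (hw k l)
      simpa only [map_mul, map_pow, rs_rs] using h
    rw [e1, key f hf, key s hs, mul_left_comm, e2]
  obtain ⟨(g : Γ(X, loc s)), hg, -⟩ := X.sheaf.existsUnique_gluing' (fun k => loc s ⊓ C.O k) (loc s)
    (fun k => homOfLE inf_le_left) (fun x hx => by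
      obtain ⟨k, hk⟩ := C.cover x
      exact Opens.mem_iSup.2 ⟨k, hx, hk⟩) gf hcomp
  have hg' : ∀ k, rs (inf_le_left : loc s ⊓ C.O k ≤ _) g * rs inf_le_right (s k) = rs inf_le_right (f k) :=
    fun k => by rw [show rs (inf_le_left : loc s ⊓ C.O k ≤ _) g = gf k from hg k, hgf]
  refine ⟨g, hg', Opens.ext (Set.ext fun x => ?_)⟩
  show x ∈ X.basicOpen g ↔ x ∈ loc s ∧ x ∈ loc f
  by_cases hxs : x ∈ loc s
  · obtain ⟨k, hk⟩ := C.cover x
    have h := congrArg (fun z => X.basicOpen z) (hg' k)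
    rw [Scheme.basicOpen_mul, basicOpen_rs, basicOpen_rs, basicOpen_rs] at h
    have h' := SetLike.ext_iff.1 h x
    have hsk := (mem_loc_iff hs hk).1 hxs
    rw [mem_loc_iff hf hk]
    exact ⟨fun hgx => ⟨hxs, (h'.1 ⟨⟨⟨hxs, hk⟩, hgx⟩, ⟨hxs, hk⟩, hsk⟩).2⟩,
      fun hfx => (h'.2 ⟨⟨hxs, hk⟩, hfx.2⟩).1.2⟩
  · exact ⟨fun h => absurd (X.basicOpen_le g h) hxs, fun h => absurd h.1 hxs⟩

/-- A sum of sections with affine loci has affine locus. -/
theorem isAffineOpen_loc_sum {ι : Type*} {N : ℕ} (t : Finset ι) {f : ι → C.P} (hf : ∀ i ∈ t, IsSec C N (f i))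
    (ha : ∀ i ∈ t, IsAffineOpen (loc (f i))) : IsAffineOpen (loc (∑ i ∈ t, f i)) := by
  classical
  let s := ∑ i ∈ t, f i
  have hs : IsSec C N s := isSec_sum t hf
  choose g hg hb using fun i : t => exists_ratio (hf i.1 i.2) hs
  have hsum : ∑ i : t, g i = 1 := by
    refine eq_of_rs_eq (fun k => loc s ⊓ C.O k) (fun k => inf_le_left) (fun x hx => by
      obtain ⟨k, hk⟩ := C.cover x
      exact Opens.mem_iSup.2 ⟨k, hx, hk⟩) fun k => ?_
    have h1 : IsUnit (rs (inf_le_right : loc s ⊓ C.O k ≤ _) (s k)) := isUnit_rs_basicOpen _ (loc_inf hs k).le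
    apply h1.mul_left_injective
    show rs _ (∑ i : t, g i) * _ = rs _ 1 * _
    simp only [map_sum, Finset.sum_mul, map_one, one_mul]
    rw [Finset.sum_congr rfl fun i _ => hg i k, ← map_sum]
    refine congrArg _ ?_
    rw [Finset.sum_coe_sort t fun i => f i k, ← Finset.sum_apply]
  refine isAffineOpen_of_isAffineOpen_basicOpen (loc s) (Set.range g) ?_ ?_
  · rw [Ideal.eq_top_iff_one, ← hsum]
    exact sum_mem fun i _ => Ideal.subset_span ⟨i, rfl⟩
  · rintro _ ⟨i, rfl⟩
    rw [hb]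
    exact isAffineOpen_loc_inf hs (ha i.1 i.2)

/-- A function on the locus of `s` times a large power of `s` extends to a section. -/
theorem exists_extend [IsNoetherian X] {D : ℕ} {s : C.P} (hs : IsSec C D s) (g : Γ(X, loc s)) :
    ∃ M : ℕ, ∃ f : C.P, IsSec C (M * D) f ∧ ∀ k, rs (inf_le_right : loc s ⊓ C.O k ≤ _) (f k) =
      rs inf_le_left g * rs inf_le_right (s k) ^ M := by
  classical
  have loc1 : ∀ k, ∃ (n : ℕ) (c : Γ(X, C.O k)), rs (inf_le_right : loc s ⊓ C.O k ≤ _) c =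
      rs inf_le_left g * rs inf_le_right (s k) ^ n := fun k => by
    haveI := (C.aff k).isLocalization_basicOpen (s k)
    obtain ⟨n, c, hc⟩ := IsLocalization.Away.surj (s k)
      (rs ((loc_inf hs k).ge.trans inf_le_left : X.basicOpen (s k) ≤ loc s) g)
    refine ⟨n, c, ?_⟩
    have h := congrArg (rs (loc_inf hs k).le) hc
    simp only [RingHom.algebraMap_toAlgebra, map_mul, map_pow] at h
    erw [rs_rs, rs_rs, rs_rs] at h
    exact h.symm
  choose n c hc using loc1
  let M₀ := Finset.univ.sup n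
  let f₀ : C.P := fun k => c k * s k ^ (M₀ - n k)
  have hf₀ : ∀ k, rs (inf_le_right : loc s ⊓ C.O k ≤ _) (f₀ k) =
      rs inf_le_left g * rs inf_le_right (s k) ^ M₀ := fun k => by
    show rs _ (c k * s k ^ (M₀ - n k)) = _
    simp only [map_mul, map_pow] at hc ⊢
    rw [hc k, mul_assoc, ← pow_add, Nat.add_sub_cancel' (Finset.le_sup (Finset.mem_univ k))]
  have hz : ∀ k l, ∃ j : ℕ, rs (inf_le_left : C.O k ⊓ C.O l ≤ _) (s k) ^ j *
      (rs inf_le_left (f₀ k) - C.u k l ^ (M₀ * D) * rs inf_le_right (f₀ l)) = 0 := fun k l => by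
    refine exists_pow_mul_eq_zero_of_res_basicOpen_eq_zero_of_isCompact X
      (TopologicalSpace.NoetherianSpace.isCompact _) _ _ ?_
    have hle : X.basicOpen (rs (inf_le_left : C.O k ⊓ C.O l ≤ _) (s k)) ≤ loc s ⊓ (C.O k ⊓ C.O l) := by
      rw [basicOpen_rs, ← loc_inf hs k]
      exact le_inf (inf_le_right.trans inf_le_left) inf_le_left
    let O := loc s ⊓ (C.O k ⊓ C.O l)
    have e : rs (inf_le_right : O ≤ _) (rs inf_le_left (f₀ k) - C.u k l ^ (M₀ * D) * rs inf_le_right (f₀ l)) = 0 := by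
      have h1 := congrArg (rs (inf_le_inf_left _ inf_le_left : O ≤ loc s ⊓ C.O k)) (hf₀ k)
      have h2 := congrArg (rs (inf_le_inf_left _ inf_le_right : O ≤ loc s ⊓ C.O l)) (hf₀ l)
      have h3 := congrArg (rs (inf_le_right : O ≤ C.O k ⊓ C.O l)) ((hs.pow M₀) k l)
      simp only [Pi.pow_apply, map_sub, map_mul, map_pow, rs_rs] at h1 h2 h3 ⊢
      rw [h1, h2, h3]
      ring
    have h := congrArg (rs hle) e
    rw [rs_rs] at h
    exact h.trans (map_zero _)
  choose j hj using hz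
  let J := Finset.univ.sup fun p : C.K × C.K => j p.1 p.2
  refine ⟨M₀ + J, f₀ * s ^ J, fun k l => ?_, fun k => ?_⟩
  · have h3 := hs.pow J k l
    obtain ⟨r, hr⟩ := Nat.exists_eq_add_of_le (Finset.le_sup (f := fun p : C.K × C.K => j p.1 p.2)
      (Finset.mem_univ (k, l)))
    have h4 : rs (inf_le_left : C.O k ⊓ C.O l ≤ _) (s k) ^ J *
        (rs inf_le_left (f₀ k) - C.u k l ^ (M₀ * D) * rs inf_le_right (f₀ l)) = 0 := by
      show rs _ (s k) ^ J * _ = 0
      rw [show J = j k l + r from hr, pow_add, mul_comm (_ ^ j k l), mul_assoc, hj, mul_zero]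
    simp only [Pi.mul_apply, Pi.pow_apply, map_mul, map_pow] at h3 h4 ⊢
    rw [Nat.add_mul, pow_add]
    rw [mul_sub, sub_eq_zero] at h4
    rw [mul_comm, h4, h3]
    ring
  · show rs _ (f₀ k * s k ^ J) = _
    have h := hf₀ k
    simp only [map_mul, map_pow] at h ⊢
    rw [h, pow_add, mul_assoc]

/-- A section on a closed subscheme times a large power of `s` lifts to a section with affine locus. -/
theorem exists_lift [IsNoetherian X] {V : Scheme.{u}} (i : V ⟶ X) [IsClosedImmersion i] {D e : ℕ} {s : C.P}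
    (hs : IsSec C D s) (hsa : IsAffineOpen (loc s)) {a : (C.pull i).P} (ha : IsSec (C.pull i) (e * D) a) :
    ∃ M : ℕ, ∀ m, M ≤ m → ∃ f : C.P, IsSec C ((e + m) * D) f ∧ IsAffineOpen (loc f) ∧
      C.pullP i f = a * C.pullP i s ^ m := by
  classical
  haveI : IsLocallyNoetherian V := LocallyOfFiniteType.isLocallyNoetherian i
  haveI : CompactSpace V := QuasiCompact.compactSpace_of_compactSpace i
  haveI : IsNoetherian V := { }
  let ps := C.pullP i s
  have hps : IsSec (C.pull i) D ps := hs.pull i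
  have ha' : IsSec (C.pull i) ((e + 1) * D) (a * ps) := by
    rw [Nat.succ_mul]
    exact ha.mul hps
  have hpe : IsSec (C.pull i) ((e + 1) * D) (ps ^ (e + 1)) := hps.pow _
  obtain ⟨gV, hgV, -⟩ := exists_ratio ha' hpe
  have hlocV : loc (ps ^ (e + 1)) = i ⁻¹ᵁ loc s := (loc_pow (Nat.succ_pos e)).trans (loc_pull i s)
  obtain ⟨g, hg⟩ := Scheme.Hom.app_surjective i (loc s) hsa (rs hlocV.ge gV)
  obtain ⟨M₁, f, hf, hfg⟩ := exists_extend hs g
  -- compare on the closed subscheme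
  have hj : ∀ k : C.K, ∃ j : ℕ, ps k ^ j * ((C.pullP i f) k * ps k ^ (e + 1) - a k * ps k * ps k ^ M₁) = 0 := by
    intro k
    refine exists_pow_mul_eq_zero_of_res_basicOpen_eq_zero_of_isCompact V
      (TopologicalSpace.NoetherianSpace.isCompact _) _ _ ?_
    let O : V.Opens := i ⁻¹ᵁ (loc s ⊓ C.O k)
    have hle : V.basicOpen (ps k) ≤ O := by
      show V.basicOpen (i.app (C.O k) (s k)) ≤ _
      rw [← Scheme.preimage_basicOpen, ← loc_inf hs k]
    have e0 : rs (i.preimage_mono inf_le_right : O ≤ i ⁻¹ᵁ C.O k)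
        ((C.pullP i f) k * ps k ^ (e + 1) - a k * ps k * ps k ^ M₁) = 0 := by
      have h1 := congrArg (i.app (loc s ⊓ C.O k)).hom (hfg k)
      rw [map_mul, map_pow, ← rs_app i inf_le_right, ← rs_app i inf_le_left, ← rs_app i inf_le_right, hg] at h1
      have h2 := congrArg (rs (le_inf (inf_le_left.trans hlocV.ge) inf_le_right :
        i ⁻¹ᵁ loc s ⊓ i ⁻¹ᵁ C.O k ≤ loc (ps ^ (e + 1)) ⊓ i ⁻¹ᵁ C.O k)) (hgV k)
      simp only [Pi.mul_apply, Pi.pow_apply, map_sub, map_mul, map_pow, rs_rs] at h1 h2 ⊢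
      rw [pullP_apply, h1, mul_right_comm]
      erw [h2]
      exact sub_self _
    have h := congrArg (rs hle) e0
    rw [rs_rs] at h
    exact h.trans (map_zero _)
  choose j hj using hj
  let J := Finset.univ.sup j
  refine ⟨M₁ + J + 1, fun m hm => ?_⟩
  obtain ⟨r, rfl⟩ := Nat.exists_eq_add_of_le hm
  refine ⟨f * s ^ (e + J + r + 1), ?_, ?_, ?_⟩
  · have h := hf.mul (hs.pow (e + J + r + 1))
    rwa [← Nat.add_mul, show M₁ + (e + J + r + 1) = e + (M₁ + J + 1 + r) by omega] at h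
  · rw [loc_mul hf (hs.pow _), loc_pow (Nat.succ_pos _)]
    exact isAffineOpen_loc_inf hf hsa
  · funext k
    obtain ⟨d, hd⟩ := Nat.exists_eq_add_of_le (Finset.le_sup (f := j) (Finset.mem_univ k))
    have h := hj k
    rw [mul_sub, sub_eq_zero] at h
    simp only [map_mul, map_pow, Pi.mul_apply, Pi.pow_apply]
    show C.pullP i f k * ps k ^ (e + J + r + 1) = a k * ps k ^ (M₁ + J + 1 + r)
    rw [show J = j k + d from hd, show e + (j k + d) + r + 1 = (j k + (e + 1)) + (d + r) by omega,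
      show M₁ + (j k + d) + 1 + r = (j k + (M₁ + 1)) + (d + r) by omega]
    calc _ = ps k ^ j k * (C.pullP i f k * ps k ^ (e + 1)) * ps k ^ (d + r) := by ring
      _ = ps k ^ j k * (a k * ps k * ps k ^ M₁) * ps k ^ (d + r) := by rw [h]
      _ = _ := by ring

end Groth.Agent.PinchLib
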