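import Groth.Agent.PinchLib.Red
import Groth.Agent.UnivOpenSectLib.Scheme

/-!
# Relative ampleness and universally open base change
-/

set_option autoImplicit false
set_option backward.isDefEq.respectTransparency false
set_option linter.style.haveILetI false

universe u

open CategoryTheory CategoryTheory.Limits AlgebraicGeometry TopologicalSpace

noncomputable section

namespace Groth.Agent.PinchLib

theorem quasiCompact_of_baseChange {X Y Y' : Scheme.{u}} (f : X ⟶ Y) (g : Y' ⟶ Y) [UniversallyOpen g]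
    [Surjective g] [QuasiCompact (pullback.snd f g)] : QuasiCompact f := by
  rw [quasiCompact_iff_forall_isAffineOpen]
  intro V hV
  obtain ⟨t, ht⟩ := hV.isCompact.elim_finite_subcover
    (fun W : {W : Y'.affineOpens // W.1 ≤ g ⁻¹ᵁ V} => g '' (W.1.1 : Set Y')) (fun W => g.isOpenMap _ W.1.1.2)
    (fun y hy => by
      obtain ⟨y', rfl⟩ := g.surjective y
      obtain ⟨_, ⟨W, hW, rfl⟩, hyW, hle⟩ :=
        Y'.isBasis_affineOpens.exists_subset_of_mem_open (show y' ∈ g ⁻¹ᵁ V from hy) (g ⁻¹ᵁ V).2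
      exact Set.mem_iUnion.2 ⟨⟨⟨W, hW⟩, hle⟩, y', hyW, rfl⟩)
  have key : ((f ⁻¹ᵁ V : X.Opens) : Set X) =
      ⋃ W ∈ t, pullback.fst f g '' (pullback.snd f g ⁻¹' (W.1.1 : Set Y')) := by
    ext x
    constructor
    · intro hx
      obtain ⟨W, hW, y', hy', he⟩ := Set.mem_iUnion₂.1 (ht hx)
      obtain ⟨z, hz₁, hz₂⟩ := Scheme.Pullback.exists_preimage_pullback (f := f) (g := g) x y' he.symm
      exact Set.mem_iUnion₂.2 ⟨W, hW, z, by rw [Set.mem_preimage, hz₂]; exact hy', hz₁⟩
    · intro hx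
      obtain ⟨W, -, z, hz, rfl⟩ := Set.mem_iUnion₂.1 hx
      show f (pullback.fst f g z) ∈ V
      rw [← Scheme.Hom.comp_apply, pullback.condition, Scheme.Hom.comp_apply]
      exact W.2 hz
  rw [key]
  exact t.finite_toSet.isCompact_biUnion fun W _ =>
    ((pullback.snd f g).isCompact_preimage W.1.2.isCompact).image (pullback.fst f g).continuous

theorem isRelAmple_of_baseChange_universallyOpen {X Y Y' : Scheme.{u}}
    [IsLocallyNoetherian Y] (f : X ⟶ Y) [LocallyOfFiniteType f] (g : Y' ⟶ Y) [LocallyOfFiniteType g]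
    [UniversallyOpen g] [Surjective g] {L : X.Modules} (hL : PicF.IsInvertible L)
    {Z : Set X} (hZ : ClSub.IsProperOver f Z)
    (hnor : ∀ x ∉ Z, IsDomain (X.presheaf.stalk x) ∧ IsIntegrallyClosed (X.presheaf.stalk x))
    (h : RelAmple.IsRelAmple (pullback.snd f g) ((Scheme.Modules.pullback (pullback.fst f g)).obj L)) :
    RelAmple.IsRelAmple f L := by
  haveI := h.1
  haveI : QuasiCompact f := quasiCompact_of_baseChange f g
  refine ⟨inferInstance, fun V => ?_⟩
  let U := f ⁻¹ᵁ V.1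
  haveI : IsAffine (V.1 : Scheme.{u}) := V.2
  haveI : IsLocallyNoetherian (V.1 : Scheme.{u}) := isLocallyNoetherian_of_isOpenImmersion V.1.ι
  haveI : CompactSpace (V.1 : Scheme.{u}) := isCompact_iff_compactSpace.1 V.2.isCompact
  haveI : IsNoetherian (V.1 : Scheme.{u}) := { }
  haveI : LocallyOfFiniteType (f ∣_ V.1) := IsZariskiLocalAtTarget.restrict (P := @LocallyOfFiniteType.{u}) inferInstance V.1
  let gV := pullback.snd g V.1.ι
  haveI : LocallyOfFiniteType gV := MorphismProperty.pullback_snd _ _ inferInstance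
  haveI : LocallyOfFinitePresentation gV := inferInstance
  haveI : UniversallyOpen gV := MorphismProperty.pullback_snd _ _ inferInstance
  haveI : Surjective gV := MorphismProperty.pullback_snd _ _ inferInstance
  obtain ⟨V', π, hπ, hπs, hloc⟩ := UnivOpenSectLib.exists_finite_splitting_qcqs gV
  haveI := hπ
  haveI := hπs
  let p := pullback.fst (f ∣_ V.1) π
  let q := pullback.snd (f ∣_ V.1) π
  let LV := L.restrict U.ι
  have hLV : PicF.IsInvertible LV := ParaFLib.isInvertible_restrict U.ι hL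
  haveI : IsAffine V' := isAffine_of_isAffineHom π
  have hq : RelAmple.IsRelAmple q ((Scheme.Modules.pullback p).obj LV) := by
    refine AmpleLib.isRelAmple_of_locally fun y => ?_
    obtain ⟨T, r, hyT, hr⟩ := hloc y
    obtain ⟨_, ⟨(W : V'.Opens), (hW : IsAffineOpen W), rfl⟩, hyW, hWT⟩ := V'.isBasis_affineOpens.exists_subset_of_mem_open hyT T.2
    refine ⟨W, hW, hyW, ?_⟩
    haveI : IsAffine (W : Scheme.{u}) := hW
    let l : (W : Scheme.{u}) ⟶ Y' := V'.homOfLE hWT ≫ r ≫ pullback.fst g V.1.ι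
    have hl : l ≫ g = W.ι ≫ π ≫ V.1.ι := by
      simp only [l, Category.assoc, pullback.condition]
      rw [reassoc_of% hr, Scheme.homOfLE_ι_assoc]
    have s1 : IsPullback ((q ⁻¹ᵁ W).ι ≫ p ≫ U.ι) (q ∣_ W) f (W.ι ≫ π ≫ V.1.ι) :=
      (isPullback_morphismRestrict q W).flip.paste_horiz
        ((IsPullback.of_hasPullback (f ∣_ V.1) π).paste_horiz (isPullback_morphismRestrict f V.1).flip)
    have s2 : IsPullback (pullback.fst (pullback.snd f g) l ≫ pullback.fst f g) (pullback.snd (pullback.snd f g) l)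
        f (W.ι ≫ π ≫ V.1.ι) := hl ▸
      (IsPullback.of_hasPullback (pullback.snd f g) l).paste_horiz (IsPullback.of_hasPullback f g)
    let e := IsPullback.isoIsPullback _ _ s1 s2
    have ha := AmpleLib.isAmple_pullback e.hom
      ((AmpleLib.isRelAmple_iff_isAmple _).1 (AmpleLib.isRelAmple_baseChange (pullback.snd f g) l h))
    refine AmpleLib.isAmple_of_iso ?_ ha
    refine (Scheme.Modules.pullback e.hom).mapIso ((Scheme.Modules.pullbackComp _ _).app L) ≪≫
      (Scheme.Modules.pullbackComp _ _).app L ≪≫ (Scheme.Modules.pullbackCongr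
        (show e.hom ≫ pullback.fst (pullback.snd f g) l ≫ pullback.fst f g = (q ⁻¹ᵁ W).ι ≫ p ≫ U.ι from
          IsPullback.isoIsPullback_hom_fst _ _ s1 s2)).app L ≪≫ ?_
    exact ((Scheme.Modules.pullbackComp _ _).app L).symm ≪≫
      (Scheme.Modules.pullback (q ⁻¹ᵁ W).ι).mapIso (((Scheme.Modules.pullbackComp p U.ι).app L).symm ≪≫
        (Scheme.Modules.pullback p).mapIso (AmpleLib.restrictIso U.ι L).symm) ≪≫ (AmpleLib.restrictIso _ _).symm
  haveI : QuasiCompact q := hq.1
  have hp : RelAmple.IsRelAmple (p ≫ f ∣_ V.1) ((Scheme.Modules.pullback p).obj LV) :=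
    (AmpleLib.isRelAmple_iff_isAmple _).2 ((AmpleLib.isRelAmple_iff_isAmple q).1 hq)
  obtain ⟨hZc, hZp⟩ := hZ
  let j := (Scheme.IdealSheafData.vanishingIdeal ⟨Z, hZc⟩).subschemeι
  haveI : IsProper (j ≫ f) := hZp
  haveI : IsProper ((j ≫ f) ∣_ V.1) := IsZariskiLocalAtTarget.restrict (P := @IsProper.{u}) inferInstance V.1
  haveI : IsClosedImmersion (j ∣_ U) := IsZariskiLocalAtTarget.restrict (P := @IsClosedImmersion.{u}) inferInstance U
  have hrj : Set.range j = Z := by
    rw [Scheme.IdealSheafData.range_subschemeι, Scheme.IdealSheafData.coe_support_vanishingIdeal]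
    rfl
  have hrange : Set.range (j ∣_ U) = U.ι ⁻¹' Z := by
    ext x
    constructor
    · rintro ⟨w, rfl⟩
      refine hrj.le ?_
      refine ⟨(j ⁻¹ᵁ U).ι w, ?_⟩
      rw [← Scheme.Hom.comp_apply, ← morphismRestrict_ι]
      rfl
    · intro hx
      obtain ⟨z, hz⟩ := hrj.ge hx
      have hzU : j z ∈ U := by rw [hz]; exact x.2
      refine ⟨⟨z, hzU⟩, U.ι.isOpenEmbedding.injective ?_⟩
      rw [← Scheme.Hom.comp_apply, morphismRestrict_ι]
      exact hz
  have hZU : ClSub.IsProperOver (f ∣_ V.1) (U.ι ⁻¹' Z) := by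
    refine (ClSubLib.isProperOver_iff _ (j ∣_ U) hrange).2 ?_
    rw [← morphismRestrict_comp]
    infer_instance
  have key := (isRelAmple_iff_of_cover (f ∣_ V.1) p LV hLV (U.ι ⁻¹' Z) hZU fun x hx => Or.inl ?_).2 hp
  · exact (AmpleLib.isRelAmple_iff_isAmple (f ∣_ V.1)).1 key
  · obtain ⟨h1, h2⟩ := hnor (U.ι x) hx
    let eU := (asIso (U.ι.stalkMap x)).commRingCatIsoToRingEquiv
    haveI : IsDomain (X.presheaf.stalk (U.ι x)) := h1
    haveI : IsIntegrallyClosed (X.presheaf.stalk (U.ι x)) := h2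
    exact ⟨eU.symm.toMulEquiv.isDomain, IsIntegrallyClosed.of_equiv eU⟩

end Groth.Agent.PinchLib
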